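import Cfsg.Agent.EqLemmas
import Cfsg.Agent.Lib.Semisimple.Basic
import Cfsg.Agent.Lib.Unitary.Field

/-!
Semisimple isometries of non-degenerate `σ`-sesquilinear forms over a finite field are determined
up to isometry by their characteristic polynomial (`exists_isometry`).
-/

set_option autoImplicit false

namespace Cfsg.Agent.FormClasses

open Polynomial

variable {F : Type*} [Field F]

/-- The involution `p(X) ↦ σp(X^(N-1))` of polynomials. -/
noncomputable def bar (σ : F →+* F) (N : ℕ) : F[X] →+* F[X] :=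
  (compRingHom (X ^ (N - 1) : F[X])).comp (mapRingHom σ)

theorem bar_C (σ : F →+* F) (N : ℕ) (a : F) : bar σ N (C a) = C (σ a) := by simp [bar]

theorem bar_X (σ : F →+* F) (N : ℕ) : bar σ N X = X ^ (N - 1) := by simp [bar]

theorem aeval_bar_bar {σ : F →+* F} {N : ℕ} (hσ : ∀ a, σ (σ a) = a) (hN : 0 < N) {A : Type*}
    [Semiring A] [Algebra F A] {a : A} (ha : a ^ N = 1) (p : F[X]) :
    aeval a (bar σ N (bar σ N p)) = aeval a p := by
  induction p using Polynomial.induction_on with
  | C c => rw [bar_C, bar_C, hσ]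
  | add p r hp hr => simp only [map_add, hp, hr]
  | monomial k c ih =>
    rw [pow_succ, ← mul_assoc]
    simp only [map_mul (bar σ N), map_mul (aeval a)] at ih ⊢
    rw [ih, bar_X, map_pow (bar σ N), bar_X, ← pow_mul]
    simp only [aeval_X_pow, aeval_X]
    congr 1
    have h1 : a ^ (N - 1) * a = 1 := by rw [← pow_succ, Nat.sub_add_cancel hN, ha]
    have h2 : (a ^ (N - 1)) ^ N = 1 := by rw [← pow_mul, mul_comm, pow_mul, ha, one_pow]
    calc a ^ ((N - 1) * (N - 1)) = (a ^ (N - 1)) ^ (N - 1) * (a ^ (N - 1) * a) := by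
          rw [h1, mul_one, pow_mul]
      _ = a := by rw [← mul_assoc, ← pow_succ, Nat.sub_add_cancel hN, h2, one_mul]

section Forms

variable {V : Type*} [AddCommGroup V] [Module F V]

/-- A `σ`-sesquilinear form, linear on the left, with symmetry `ε`; alternating if `σ = 1`. -/
structure IsForm (σ : F →+* F) (ε : F) (B : V → V → F) : Prop where
  add_left : ∀ x y z, B (x + y) z = B x z + B y z
  smul_left : ∀ (c : F) x z, B (c • x) z = c * B x z
  symm : ∀ x y, B y x = ε * σ (B x y)
  alt : (∀ a, σ a = a) → ∀ x, B x x = 0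

/-- The form is non-degenerate on the subspace `R`. -/
def NondegOn (B : V → V → F) (R : Submodule F V) : Prop :=
  ∀ x ∈ R, (∀ y ∈ R, B x y = 0) → x = 0

variable {σ : F →+* F} {ε : F} {B : V → V → F} (H : IsForm σ ε B)
include H

theorem IsForm.zero_left (z : V) : B 0 z = 0 := by simpa using H.smul_left 0 0 z

theorem IsForm.zero_right (z : V) : B z 0 = 0 := by
  rw [H.symm, H.zero_left, map_zero, mul_zero]

theorem IsForm.sub_left (x y z : V) : B (x - y) z = B x z - B y z := by
  have := H.add_left (x - y) y z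
  rw [sub_add_cancel] at this
  linear_combination -this

theorem IsForm.add_right (x y z : V) : B x (y + z) = B x y + B x z := by
  rw [H.symm (y + z) x, H.add_left, map_add, mul_add, ← H.symm, ← H.symm]

theorem IsForm.smul_right (c : F) (x y : V) : B x (c • y) = σ c * B x y := by
  rw [H.symm (c • y) x, H.smul_left, map_mul, H.symm y x]
  ring

theorem IsForm.eq_zero_symm {x y : V} (h : B x y = 0) : B y x = 0 := by
  rw [H.symm, h, map_zero, mul_zero]

/-- Restriction to a subspace. -/
theorem IsForm.restrict (U : Submodule F V) : IsForm σ ε (fun x y : U => B x y) where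
  add_left x y z := H.add_left _ _ _
  smul_left c x z := H.smul_left _ _ _
  symm x y := H.symm _ _
  alt h x := H.alt h _

/-- The orthogonal complement of a subspace. -/
def orth (R : Submodule F V) : Submodule F V where
  carrier := {x | ∀ r ∈ R, B x r = 0}
  add_mem' hx hy r hr := by rw [H.add_left, hx r hr, hy r hr, add_zero]
  zero_mem' r _ := H.zero_left r
  smul_mem' c x hx r hr := by rw [H.smul_left, hx r hr, mul_zero]

theorem mem_orth {R : Submodule F V} {x : V} : x ∈ orth H R ↔ ∀ r ∈ R, B x r = 0 := Iff.rfl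

variable [Finite F] [FiniteDimensional F V]

theorem isCompl_orth {R : Submodule F V} (hR : NondegOn B R) : IsCompl R (orth H R) := by
  haveI : Finite V := Module.finite_of_finite F
  refine ⟨Submodule.disjoint_def.2 fun x hx hx' => hR x hx hx',
    codisjoint_iff.2 (Submodule.eq_top_iff'.2 fun y => ?_)⟩
  let lin : V → (R →ₗ[F] F) := fun v =>
    { toFun := fun r => B r v
      map_add' := fun r s => by rw [Submodule.coe_add, H.add_left]
      map_smul' := fun c r => by rw [Submodule.coe_smul, H.smul_left, RingHom.id_apply, smul_eq_mul] }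
  let ψ : R → (R →ₗ[F] F) := fun s => lin s
  have hinj : Function.Injective ψ := fun s t h => by
    have h' : ∀ r : R, B r s = B r t := fun r => DFunLike.congr_fun h r
    refine Subtype.ext (sub_eq_zero.1 (hR _ (R.sub_mem s.2 t.2) fun r hr => ?_))
    have := h' ⟨r, hr⟩
    rw [H.sub_left, H.symm r s, H.symm r t, this, sub_self]
  haveI : Finite (R →ₗ[F] F) := Module.finite_of_finite F
  have hsurj : Function.Surjective ψ := (hinj.bijective_of_nat_card_le (le_of_eq (by
    rw [Module.natCard_eq_pow_finrank (K := F), Module.natCard_eq_pow_finrank (K := F) (V := R),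
      Subspace.dual_finrank_eq]))).2
  obtain ⟨s, hs⟩ := hsurj (lin y)
  refine Submodule.mem_sup.2 ⟨s, s.2, y - s, fun r hr => ?_, add_sub_cancel _ _⟩
  have h1 : B r (s : V) = B r y := DFunLike.congr_fun hs ⟨r, hr⟩
  rw [H.sub_left, H.symm r y, H.symm r s, h1, sub_self]

theorem nondegOn_orth {R : Submodule F V} (hR : NondegOn B R)
    (hnd : ∀ x, (∀ y, B x y = 0) → x = 0) : NondegOn B (orth H R) := by
  intro x hx h
  refine hnd x fun y => ?_
  obtain ⟨r, hr, z, hz, rfl⟩ := Submodule.mem_sup.1
    ((isCompl_orth H hR).sup_eq_top ▸ Submodule.mem_top : y ∈ R ⊔ orth H R)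
  rw [H.add_right, hx r hr, h z hz, add_zero]

end Forms

section Isometry

variable {σ : F →+* F} {ε : F} {N : ℕ}
variable {V : Type*} [AddCommGroup V] [Module F V]

/-- An isometry of finite order dividing `N`. -/
structure IsIsom (N : ℕ) (B : V → V → F) (g : Module.End F V) : Prop where
  isom : ∀ x y, B (g x) (g y) = B x y
  pow : g ^ N = 1

variable {B : V → V → F} {g : Module.End F V} (H : IsForm σ ε B) (G : IsIsom N B g) (hN : 0 < N)
include H G hN

theorem adjoint_left : ∀ (p : F[X]) (x y : V),
    B (aeval g p x) y = B x (aeval g (bar σ N p) y) := by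
  intro p
  induction p using Polynomial.induction_on with
  | C c =>
    intro x y
    simp only [bar_C, aeval_C, Module.algebraMap_end_apply, H.smul_left, H.smul_right]
    rw [← H.smul_left, H.symm y (c • x)]
    rw [H.smul_right, map_mul, H.symm y x]
    ring
  | add p r hp hr =>
    intro x y
    simp only [map_add, LinearMap.add_apply, H.add_left, H.add_right, hp, hr]
  | monomial k c ih =>
    intro x y
    simp only [pow_succ, ← mul_assoc]
    rw [map_mul (aeval g) (C c * X ^ k), aeval_X, Module.End.mul_apply, ih,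
      map_mul (bar σ N) (C c * X ^ k), bar_X, mul_comm (bar σ N (C c * X ^ k)), map_mul (aeval g),
      map_pow, aeval_X, Module.End.mul_apply]
    generalize aeval g (bar σ N (C c * X ^ k)) y = z
    conv_lhs => rw [show z = g ((g ^ (N - 1)) z) by
      rw [← Module.End.mul_apply, ← pow_succ', Nat.sub_add_cancel hN, G.pow]; rfl]
    rw [G.isom]

theorem adjoint_right (p : F[X]) (x y : V) :
    B x (aeval g p y) = B (aeval g (bar σ N p) x) y := by
  rw [H.symm (aeval g p y) x, adjoint_left H G hN, ← H.symm]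

theorem aeval_eq_zero_of_pairing (hσ : ∀ a, σ (σ a) = a) {f : F[X]} (hf : Irreducible f) {v w : V}
    (hv : aeval g f v = 0) (hvw : ∃ p : F[X], B (aeval g p v) w ≠ 0) (a : F[X])
    (ha : ∀ p : F[X], B (aeval g (p * a) v) w = 0) : aeval g a v = 0 := by
  by_cases hd : f ∣ a
  · obtain ⟨t, rfl⟩ := hd
    rw [mul_comm, map_mul, Module.End.mul_apply, hv, map_zero]
  · obtain ⟨u, t, hut⟩ := hf.coprime_iff_not_dvd.2 hd
    obtain ⟨p, hp⟩ := hvw
    refine absurd ?_ hp
    have : aeval g p v = aeval g (p * t * a) v := by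
      have h := congrArg (fun q => aeval g (p * q) v) hut
      simp only [mul_one, mul_add, map_add, LinearMap.add_apply, ← mul_assoc, map_mul,
        Module.End.mul_apply, hv, map_zero, zero_add] at h
      rw [map_mul, map_mul, Module.End.mul_apply, Module.End.mul_apply]
      exact h.symm
    rw [this, ha]

theorem orth_invariant {R : Submodule F V} (hR : ∀ x ∈ R, g x ∈ R) :
    ∀ x ∈ orth H R, g x ∈ orth H R := by
  intro x hx r hr
  have hpow : ∀ k, ∀ y ∈ R, (g ^ k) y ∈ R := by
    intro k
    induction k with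
    | zero => intro y hy; simpa using hy
    | succ k ih => intro y hy; rw [pow_succ', Module.End.mul_apply]; exact hR _ (ih y hy)
  have hrr : g ((g ^ (N - 1)) r) = r := by
    rw [← Module.End.mul_apply, ← pow_succ', Nat.sub_add_cancel hN, G.pow]; rfl
  rw [← hrr, G.isom]
  exact hx _ (hpow _ r hr)

end Isometry

section Transport

variable {V W : Type*} [AddCommGroup V] [Module F V] [AddCommGroup W] [Module F W]
variable {M : Type*} [AddCommGroup M] [Module F M]

/-- Two parametrisations with the same Gram values give an isometry of their ranges. -/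
theorem exists_range_equiv {σ : F →+* F} {ε : F} {B : V → V → F} {B' : W → W → F}
    (H : IsForm σ ε B) (H' : IsForm σ ε B') (L : M →ₗ[F] V) (L' : M →ₗ[F] W)
    (hR : NondegOn B (LinearMap.range L)) (hR' : NondegOn B' (LinearMap.range L'))
    (hG : ∀ a b, B' (L' a) (L' b) = B (L a) (L b)) :
    ∃ e : LinearMap.range L ≃ₗ[F] LinearMap.range L',
      (∀ a, ((e ⟨L a, a, rfl⟩ : LinearMap.range L') : W) = L' a) ∧
      ∀ x y, B' (e x) (e y) = B x y := by
  have hker : LinearMap.ker L = LinearMap.ker L' := by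
    ext a
    constructor
    · intro ha
      refine LinearMap.mem_ker.2 (hR' _ ⟨a, rfl⟩ ?_)
      rintro _ ⟨b, rfl⟩
      rw [hG, LinearMap.mem_ker.1 ha, H.zero_left]
    · intro ha
      refine LinearMap.mem_ker.2 (hR _ ⟨a, rfl⟩ ?_)
      rintro _ ⟨b, rfl⟩
      rw [← hG, LinearMap.mem_ker.1 ha, H'.zero_left]
  let e := L.quotKerEquivRange.symm.trans ((Submodule.quotEquivOfEq _ _ hker).trans L'.quotKerEquivRange)
  have he : ∀ a, ((e ⟨L a, a, rfl⟩ : LinearMap.range L') : W) = L' a := fun a => by
    have hs : L.quotKerEquivRange.symm ⟨L a, a, rfl⟩ = Submodule.Quotient.mk a := by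
      rw [LinearEquiv.symm_apply_eq]
      exact Subtype.ext (L.quotKerEquivRange_apply_mk a).symm
    simp only [e, LinearEquiv.trans_apply, hs, Submodule.quotEquivOfEq_mk]
    exact L'.quotKerEquivRange_apply_mk a
  refine ⟨e, he, ?_⟩
  rintro ⟨_, a, rfl⟩ ⟨_, b, rfl⟩
  rw [he, he, hG]

end Transport

section Field

/-- Norms of a finite field with a non-trivial involution are exactly the fixed elements. -/
theorem exists_norm {E : Type*} [Field E] [Finite E] (ι : E →+* E) (hι : ∀ x, ι (ι x) = x) {δ : E}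
    (hδ : ι δ ≠ δ) {s : E} (hs : ι s = s) : ∃ c, c * ι c = s := by
  classical
  haveI := Fintype.ofFinite E
  let K : Subfield E :=
    { carrier := {x | ι x = x}
      mul_mem' := fun {a b} ha hb => by
        simp only [Set.mem_setOf_eq, map_mul] at *; rw [ha, hb]
      one_mem' := map_one ι
      add_mem' := fun {a b} ha hb => by
        simp only [Set.mem_setOf_eq, map_add] at *; rw [ha, hb]
      zero_mem' := map_zero ι
      neg_mem' := fun {a} ha => by simp only [Set.mem_setOf_eq, map_neg] at *; rw [ha]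
      inv_mem' := fun a ha => by simp only [Set.mem_setOf_eq, map_inv₀] at *; rw [ha] }
  have hK : ∀ x, x ∈ K ↔ ι x = x := fun _ => Iff.rfl
  have hδ' : δ - ι δ ≠ 0 := sub_ne_zero.2 (Ne.symm hδ)
  let Φ : K × K → E := fun x => x.1 + x.2 * δ
  have hΦ : Function.Bijective Φ := by
    constructor
    · rintro ⟨a, b⟩ ⟨a', b'⟩ h
      change (a : E) + b * δ = a' + b' * δ at h
      have h' := congrArg ι h
      simp only [map_add, map_mul, (hK _).1 a.2, (hK _).1 b.2, (hK _).1 a'.2, (hK _).1 b'.2] at h'
      have hb : (b : E) = b' := sub_eq_zero.1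
        ((mul_eq_zero.1 (show ((b : E) - b') * (δ - ι δ) = 0 by linear_combination h - h')).resolve_right hδ')
      have ha : (a : E) = a' := by rw [hb] at h; exact add_right_cancel h
      exact Prod.ext (Subtype.ext ha) (Subtype.ext hb)
    · intro x
      have hb : (x - ι x) / (δ - ι δ) ∈ K := (hK _).2 (by
        rw [map_div₀, map_sub, map_sub, hι, hι, ← neg_sub, ← neg_sub δ, neg_div_neg_eq])
      have ha : x - (x - ι x) / (δ - ι δ) * δ ∈ K := (hK _).2 (by
        rw [map_sub, map_mul, (hK _).1 hb]
        linear_combination (div_mul_cancel₀ (x - ι x) hδ'))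
      exact ⟨(⟨_, ha⟩, ⟨_, hb⟩), sub_add_cancel _ _⟩
  set Q := Nat.card K
  have hQ : Fintype.card E = Q ^ 2 := by
    rw [← Nat.card_eq_fintype_card, ← Nat.card_eq_of_bijective Φ hΦ, Nat.card_prod, sq]
  have hfixK : ∀ x, ι x = x → x ^ Q = x := fun x hx => by
    haveI := Fintype.ofFinite K
    have h := congrArg Subtype.val (FiniteField.pow_card (⟨x, (hK x).2 hx⟩ : K))
    simpa [Q, Nat.card_eq_fintype_card] using h
  have hδQ : δ ^ Q = ι δ := by
    have hn : δ ^ Q ≠ δ := fun h => by
      have hall : ∀ x : E, x ^ Q = x := fun x => by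
        obtain ⟨⟨a, b⟩, rfl⟩ := hΦ.2 x
        show ((a : E) + b * δ) ^ Q = _
        rw [Unitary.add_pow_q hQ, mul_pow, hfixK _ a.2, hfixK _ b.2, h]
      have h1 := Unitary.card_fixed hQ
      rw [Nat.card_congr (Equiv.subtypeUnivEquiv hall), Nat.card_eq_fintype_card, hQ] at h1
      have := Unitary.two_le_q hQ
      nlinarith
    have ht : (δ + ι δ) ^ Q = δ + ι δ := hfixK _ (by rw [map_add, hι, add_comm])
    have hd : (δ * ι δ) ^ Q = δ * ι δ := hfixK _ (by rw [map_mul, hι, mul_comm])
    rw [Unitary.add_pow_q hQ] at ht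
    rw [mul_pow] at hd
    have : (δ ^ Q - δ) * (δ ^ Q - ι δ) = 0 := by linear_combination -hd + (δ ^ Q) * ht
    exact sub_eq_zero.1 ((mul_eq_zero.1 this).resolve_left (sub_ne_zero.2 hn))
  have hιQ : ∀ x, ι x = x ^ Q := fun x => by
    obtain ⟨⟨a, b⟩, rfl⟩ := hΦ.2 x
    show ι ((a : E) + b * δ) = ((a : E) + b * δ) ^ Q
    rw [map_add, map_mul, (hK _).1 a.2, (hK _).1 b.2, Unitary.add_pow_q hQ, mul_pow, hfixK _ a.2,
      hfixK _ b.2, hδQ]
  obtain ⟨c, hc⟩ := Unitary.exists_norm_eq hQ (hfixK s hs)
  exact ⟨c, by rw [hιQ, ← hc]; ring⟩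

end Field

end Cfsg.Agent.FormClasses
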