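import Cfsg.Agent.EqLemmas
import Cfsg.Agent.Lib.FormClasses.Basic

/-!
`exists_isometry`: two semisimple isometries with the same characteristic polynomial are isometric.
-/

set_option autoImplicit false

namespace Cfsg.Agent.FormClasses

open Polynomial

variable {F : Type*} [Field F] {σ : F →+* F} {ε : F} {N : ℕ}
variable {V : Type*} [AddCommGroup V] [Module F V]

theorem exists_decomp (hNF : (N : F) ≠ 0) {g : Module.End F V} (hg : g ^ N = 1) (h : F[X]) (y : V) :
    ∃ z t, aeval g h z = 0 ∧ y = z + aeval g h t := by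
  classical
  obtain ⟨e, he⟩ := EuclideanDomain.gcd_dvd_right h (X ^ N - 1 : F[X])
  set d := EuclideanDomain.gcd h (X ^ N - 1 : F[X]) with hd
  have hsep : (X ^ N - 1 : F[X]).Separable := by
    rw [← map_one (C : F →+* F[X])]
    exact separable_X_pow_sub_C 1 hNF one_ne_zero
  rw [he] at hsep
  obtain ⟨a, b, hab⟩ := hsep.isCoprime
  obtain ⟨h', hh⟩ : d ∣ h := EuclideanDomain.gcd_dvd_left h _
  have hbez := EuclideanDomain.gcd_eq_gcd_ab h (X ^ N - 1 : F[X])
  rw [← hd] at hbez
  set α := EuclideanDomain.gcdA h (X ^ N - 1 : F[X]) with hα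
  set β := EuclideanDomain.gcdB h (X ^ N - 1 : F[X]) with hβ
  have hm : aeval g (X ^ N - 1 : F[X]) = 0 := by simp [hg]
  refine ⟨aeval g (b * e) y, aeval g (a * α) y, ?_, ?_⟩
  · rw [← Module.End.mul_apply, ← map_mul, show h * (b * e) = (h' * b) * (X ^ N - 1) by
      rw [he]; linear_combination (b * e) * hh, map_mul, hm, mul_zero, LinearMap.zero_apply]
  · conv_lhs => rw [show y = aeval g (1 : F[X]) y by simp, ← hab]
    rw [map_add, LinearMap.add_apply, add_comm, ← Module.End.mul_apply (aeval g h), ← map_mul,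
      show a * d = h * (a * α) + a * β * (X ^ N - 1) by linear_combination a * hbez,
      map_add, map_mul _ (a * β), hm, mul_zero, add_zero]

theorem dvd_pow_sub_one_of_ne_zero {g : Module.End F V} (hg : g ^ N = 1) {f : F[X]}
    (hf : Irreducible f) {v : V} (hv : v ≠ 0) (hfv : aeval g f v = 0) : f ∣ X ^ N - 1 := by
  by_contra h
  obtain ⟨a, b, hab⟩ := hf.coprime_iff_not_dvd.2 h
  refine hv ?_
  have := LinearMap.congr_fun (congrArg (aeval g) hab) v
  simpa [hg, hfv] using this.symm

theorem dvd_of_aeval_eq_zero {g : Module.End F V} {f : F[X]} (hf : Irreducible f) {v : V}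
    (hv : v ≠ 0) (hfv : aeval g f v = 0) {p : F[X]} (hp : aeval g p v = 0) : f ∣ p :=
  (Semisimple.orbitMap_eq_zero_iff g hv hf hfv p).1 hp

theorem aeval_eq_zero_of_dvd {g : Module.End F V} {f : F[X]} {v : V} (hfv : aeval g f v = 0)
    {p : F[X]} (hp : f ∣ p) : aeval g p v = 0 := by
  obtain ⟨t, rfl⟩ := hp
  rw [mul_comm, map_mul, Module.End.mul_apply, hfv, map_zero]

/-- Rescaling of functionals on a simple extension. -/
theorem exists_scale {f : F[X]} (hf : Irreducible f) (hm : f.Monic) (Φ Ψ : F[X] →ₗ[F] F)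
    (hΦ : ∀ p, f ∣ p → Φ p = 0) (hΨ : ∀ p, f ∣ p → Ψ p = 0) (hne : ∃ p, Φ p ≠ 0) :
    ∃ s, ∀ p, Ψ p = Φ (p * s) := by
  haveI := Fact.mk hf
  haveI : Module.Finite F (AdjoinRoot f) := (AdjoinRoot.powerBasis hf.ne_zero).finite
  have red : ∀ Ξ : F[X] →ₗ[F] F, (∀ p, f ∣ p → Ξ p = 0) → ∀ p,
      Ξ (AdjoinRoot.modByMonicHom hm (AdjoinRoot.mk f p)) = Ξ p := by
    intro Ξ hΞ p
    rw [AdjoinRoot.modByMonicHom_mk, ← sub_eq_zero, ← map_sub]
    exact hΞ _ ⟨-(p /ₘ f), by linear_combination (Polynomial.modByMonic_add_div p f)⟩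
  let T : AdjoinRoot f →ₗ[F] (AdjoinRoot f →ₗ[F] F) :=
    { toFun := fun s => (Φ.comp (AdjoinRoot.modByMonicHom hm)).comp (LinearMap.mulRight F s)
      map_add' := fun s t => LinearMap.ext fun x => by simp [mul_add]
      map_smul' := fun c s => LinearMap.ext fun x => by simp }
  have hinj : Function.Injective T := by
    rw [injective_iff_map_eq_zero]
    intro s hs
    by_contra h0
    obtain ⟨p, hp⟩ := hne
    refine hp ?_
    rw [← red Φ hΦ]
    have := LinearMap.congr_fun hs (AdjoinRoot.mk f p * s⁻¹)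
    simpa [T, h0] using this
  obtain ⟨s, hs⟩ := (LinearMap.injective_iff_surjective_of_finrank_eq_finrank
    (Subspace.dual_finrank_eq).symm).1 hinj (Ψ.comp (AdjoinRoot.modByMonicHom hm))
  obtain ⟨s', rfl⟩ := AdjoinRoot.mk_surjective s
  refine ⟨s', fun p => ?_⟩
  have := LinearMap.congr_fun hs (AdjoinRoot.mk f p)
  simp only [T, LinearMap.coe_mk, AddHom.coe_mk, LinearMap.comp_apply, LinearMap.mulRight_apply,
    ← map_mul, red Φ hΦ, red Ψ hΨ] at this
  exact this.symm

/-- `f` is paired with itself in a non-trivial way. -/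
def SelfPaired (σ : F →+* F) (N : ℕ) (f : F[X]) : Prop :=
  f ∣ bar σ N f ∧ ∃ c, ¬ f ∣ c - bar σ N c

section

variable [Finite F] [FiniteDimensional F V] {B : V → V → F} {g : Module.End F V}
  (H : IsForm σ ε B) (G : IsIsom N B g) (hN : 0 < N) (hσ : ∀ a, σ (σ a) = a) (hNF : (N : F) ≠ 0)
  (hnd : ∀ x, (∀ y, B x y = 0) → x = 0)
  {f : F[X]} (hf : Irreducible f) {v₀ : V} (hv : v₀ ≠ 0) (hfv : aeval g f v₀ = 0)
include H G hN hσ hNF hnd hf hv hfv

omit [Finite F] [FiniteDimensional F V] in
theorem exists_self_vector (hS : SelfPaired σ N f) :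
    ∃ v, aeval g f v = 0 ∧ ∃ p : F[X], B (aeval g p v) v ≠ 0 := by
  by_contra hcon
  push Not at hcon
  obtain ⟨hfb, c, hc⟩ := hS
  obtain ⟨y, hy⟩ : ∃ y, B v₀ y ≠ 0 := by
    by_contra h; push Not at h; exact hv (hnd v₀ h)
  obtain ⟨z, t, hz, rfl⟩ := exists_decomp hNF G.pow f y
  rw [H.add_right, adjoint_right H G hN, aeval_eq_zero_of_dvd hfv hfb, H.zero_left, add_zero] at hy
  have hcl : ∀ a u, aeval g f u = 0 → aeval g f (aeval g a u) = 0 := fun a u hu => by
    rw [← Module.End.mul_apply, ← map_mul, mul_comm, map_mul, Module.End.mul_apply, hu, map_zero]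
  have hrel : ∀ (p : F[X]) u u', aeval g f u = 0 → aeval g f u' = 0 →
      B (aeval g p u) u' = -(ε * σ (B (aeval g (bar σ N p) u) u')) := by
    intro p u u' hu hu'
    have h := hcon (u + u') (by rw [map_add, hu, hu', add_zero]) p
    rw [map_add, H.add_left, H.add_right, H.add_right, hcon u hu p, hcon u' hu' p,
      adjoint_left H G hN p u' u, H.symm _ u'] at h
    linear_combination h
  have hzero : ∀ p, B (aeval g (p * (c - bar σ N c)) v₀) z = 0 := by
    intro p
    have h1 := hrel (bar σ N p) (aeval g c v₀) z (hcl c v₀ hfv) hz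
    have h2 := hrel (bar σ N p * c) v₀ z hfv hz
    rw [map_mul (aeval g), Module.End.mul_apply, h1, neg_inj] at h2
    rw [map_mul (bar σ N), ← Module.End.mul_apply, ← map_mul] at h2
    have h3 : ∀ a, B (aeval g (bar σ N (bar σ N p) * a) v₀) z = B (aeval g (p * a) v₀) z := fun a => by
      rw [map_mul, map_mul, aeval_bar_bar hσ hN G.pow]
    rw [h3, h3] at h2
    have he : ε ≠ 0 := fun h0 => hy (by rw [H.symm z v₀, h0, zero_mul])
    have h4 := σ.injective (mul_left_cancel₀ he h2)
    rw [mul_sub, map_sub, LinearMap.sub_apply, H.sub_left, h4, sub_self]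
  exact hc (dvd_of_aeval_eq_zero hf hv hfv
    (aeval_eq_zero_of_pairing H G hN hσ hf hfv ⟨1, by simpa using hy⟩ _ hzero))

omit [Finite F] [FiniteDimensional F V] in
theorem exists_pair_vectors (hS : ¬ SelfPaired σ N f) :
    ∃ z, aeval g (bar σ N f) z = 0 ∧ B v₀ z ≠ 0 ∧
      (∀ p : F[X], B (aeval g p v₀) v₀ = 0) ∧ ∀ p : F[X], B (aeval g p z) z = 0 := by
  obtain ⟨y, hy⟩ : ∃ y, B v₀ y ≠ 0 := by
    by_contra h; push Not at h; exact hv (hnd v₀ h)
  by_cases hfb : f ∣ bar σ N f
  · -- `g` is `±1` on the kernel of `f`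
    have htriv : ∀ c, f ∣ c - bar σ N c := by
      intro c; by_contra hc; exact hS ⟨hfb, c, hc⟩
    obtain ⟨z, t, hz, rfl⟩ := exists_decomp hNF G.pow f y
    rw [H.add_right, adjoint_right H G hN, aeval_eq_zero_of_dvd hfv hfb, H.zero_left, add_zero] at hy
    have hid : ∀ a, σ a = a := by
      intro a
      have h := htriv (C a)
      rw [bar_C, ← map_sub] at h
      by_contra hne
      exact hf.not_isUnit (isUnit_of_dvd_unit h (isUnit_C.2 (Ne.isUnit (sub_ne_zero.2 (Ne.symm hne)))))
    have hdvd : f ∣ (X - C 1) * (X - C (-1)) := by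
      have h1 : f ∣ X * (X - bar σ N X) + (X ^ N - 1) :=
        dvd_add ((htriv X).mul_left X) (dvd_pow_sub_one_of_ne_zero G.pow hf hv hfv)
      rw [bar_X, show (X : F[X]) * (X - X ^ (N - 1)) + (X ^ N - 1) = (X - C 1) * (X - C (-1)) by
        conv_lhs => rw [mul_sub, ← pow_succ', Nat.sub_add_cancel hN]
        rw [map_neg, map_one]; ring] at h1
      exact h1
    obtain ⟨a, ha⟩ : ∃ a : F, Associated f (X - C a) := by
      rcases hf.prime.dvd_or_dvd hdvd with h | h
      · exact ⟨1, hf.associated_of_dvd (irreducible_X_sub_C 1) h⟩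
      · exact ⟨-1, hf.associated_of_dvd (irreducible_X_sub_C (-1)) h⟩
    have hscal : ∀ u, aeval g f u = 0 → ∀ p : F[X], aeval g p u = p.eval a • u := by
      intro u hu p
      have h := aeval_eq_zero_of_dvd hu (ha.dvd.trans (X_sub_C_dvd_sub_C_eval (a := a) (p := p)))
      rwa [map_sub, LinearMap.sub_apply, aeval_C, Module.algebraMap_end_apply, sub_eq_zero] at h
    refine ⟨z, aeval_eq_zero_of_dvd hz hfb, hy, fun p => ?_, fun p => ?_⟩
    · rw [hscal v₀ hfv p, H.smul_left, H.alt hid, mul_zero]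
    · rw [hscal z hz p, H.smul_left, H.alt hid, mul_zero]
  · obtain ⟨z, t, hz, rfl⟩ := exists_decomp hNF G.pow (bar σ N f) y
    rw [H.add_right, adjoint_right H G hN, aeval_bar_bar hσ hN G.pow, hfv, H.zero_left, add_zero] at hy
    obtain ⟨a, b, hab⟩ := hf.coprime_iff_not_dvd.2 hfb
    refine ⟨z, hz, hy, fun p => ?_, fun p => ?_⟩
    · have h := LinearMap.congr_fun (congrArg (aeval g) (congrArg (p * ·) hab)) v₀
      simp only [mul_add, map_add, map_mul, map_one, mul_one, LinearMap.add_apply, Module.End.mul_apply,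
        hfv, map_zero, zero_add] at h
      rw [← h, ← Module.End.mul_apply, ← map_mul, ← Module.End.mul_apply, ← map_mul, map_mul _ _ (bar σ N f),
        Module.End.mul_apply]
      have hcomm : aeval g (p * b) (aeval g (bar σ N f) v₀) = aeval g (bar σ N f) (aeval g (p * b) v₀) := by
        rw [← Module.End.mul_apply, ← map_mul, mul_comm, map_mul, Module.End.mul_apply]
      rw [hcomm, adjoint_left H G hN, aeval_bar_bar hσ hN G.pow, hfv, H.zero_right]
    · have h := LinearMap.congr_fun (congrArg (aeval g) (congrArg (p * ·) hab)) z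
      simp only [mul_add, map_add, map_mul, map_one, mul_one, LinearMap.add_apply, Module.End.mul_apply,
        hz, map_zero, add_zero] at h
      rw [← h, ← Module.End.mul_apply, ← map_mul]
      have hcomm : aeval g (p * a) (aeval g f z) = aeval g f (aeval g (p * a) z) := by
        rw [← Module.End.mul_apply, ← map_mul, mul_comm, map_mul, Module.End.mul_apply]
      rw [hcomm, adjoint_left H G hN, hz, H.zero_right]

end

section Pair

variable {B : V → V → F} {g : Module.End F V} (H : IsForm σ ε B) (G : IsIsom N B g) (hN : 0 < N)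
include H G hN

theorem pair_gram (u u' : V) (hu : ∀ p : F[X], B (aeval g p u) u = 0)
    (hu' : ∀ p : F[X], B (aeval g p u') u' = 0) (a b c d : F[X]) :
    B (aeval g a u + aeval g b u') (aeval g c u + aeval g d u') =
      B (aeval g (bar σ N d * a) u) u' + ε * σ (B (aeval g (bar σ N b * c) u) u') := by
  rw [H.add_left, H.add_right, H.add_right,
    H.symm (aeval g c u) (aeval g b u'), adjoint_right H G hN c, adjoint_right H G hN d (aeval g a u),
    adjoint_right H G hN b (aeval g c u), adjoint_right H G hN d (aeval g b u'),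
    ← Module.End.mul_apply, ← map_mul, ← Module.End.mul_apply, ← map_mul, ← Module.End.mul_apply,
    ← map_mul, ← Module.End.mul_apply, ← map_mul, hu, hu']
  ring

theorem pair_nondeg (hσ : ∀ a, σ (σ a) = a) {f : F[X]} (hf : Irreducible f) (u u' : V)
    (hu : ∀ p : F[X], B (aeval g p u) u = 0) (hu' : ∀ p : F[X], B (aeval g p u') u' = 0)
    (hu0 : u ≠ 0) (hfu : aeval g f u = 0) (hfu' : aeval g (bar σ N f) u' = 0) (hne : B u u' ≠ 0) :
    NondegOn B (LinearMap.range
      ((Semisimple.orbitMap g u).coprod (Semisimple.orbitMap g u'))) := by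
  rintro _ ⟨⟨a, b⟩, rfl⟩ hx
  simp only [LinearMap.coprod_apply, Semisimple.orbitMap_apply] at hx ⊢
  have hg := fun c d => (pair_gram H G hN u u' hu hu' a b c d).symm.trans
    (hx _ ⟨(c, d), by simp⟩)
  have hpair : ∃ p : F[X], B (aeval g p u) u' ≠ 0 := ⟨1, by simpa using hne⟩
  have ha : aeval g a u = 0 := aeval_eq_zero_of_pairing H G hN hσ hf hfu hpair a fun p => by
    have h := hg 0 (bar σ N p)
    simp only [mul_zero, map_zero, LinearMap.zero_apply, H.zero_left, add_zero] at h
    rwa [map_mul, aeval_bar_bar hσ hN G.pow, ← map_mul] at h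
  have hε : ε ≠ 0 := fun h0 => hne (by rw [H.symm u' u, h0, zero_mul])
  have hb : aeval g (bar σ N b) u = 0 := aeval_eq_zero_of_pairing H G hN hσ hf hfu hpair _ fun p => by
    have h := hg p 0
    simp only [map_zero, zero_mul, LinearMap.zero_apply, H.zero_left, zero_add, mul_eq_zero, hε,
      false_or] at h
    rw [mul_comm]
    exact (map_eq_zero_iff σ σ.injective).1 h
  obtain ⟨t, ht⟩ := dvd_of_aeval_eq_zero hf hu0 hfu hb
  have hb' : aeval g b u' = 0 := by
    rw [← aeval_bar_bar hσ hN G.pow b, ht, map_mul (bar σ N)]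
    exact aeval_eq_zero_of_dvd hfu' (Dvd.intro _ rfl)
  rw [ha, hb', add_zero]

end Pair

section Blocks

variable [Finite F] [FiniteDimensional F V]
variable {W : Type*} [AddCommGroup W] [Module F W] [FiniteDimensional F W]

/-- Matching invariant non-degenerate blocks. -/
theorem exists_block {B : V → V → F} {g : Module.End F V} (H : IsForm σ ε B) (G : IsIsom N B g)
    {B' : W → W → F} {g' : Module.End F W} (H' : IsForm σ ε B') (G' : IsIsom N B' g')
    (hN : 0 < N) (hσ : ∀ a, σ (σ a) = a) (hNF : (N : F) ≠ 0)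
    (hnd : ∀ x, (∀ y, B x y = 0) → x = 0) (hnd' : ∀ x, (∀ y, B' x y = 0) → x = 0)
    {f : F[X]} (hf : Irreducible f) (hm : f.Monic) {v₀ : V} (hv : v₀ ≠ 0) (hfv : aeval g f v₀ = 0)
    {w₀ : W} (hw : w₀ ≠ 0) (hfw : aeval g' f w₀ = 0) :
    ∃ (R : Submodule F V) (R' : Submodule F W) (hR : ∀ x ∈ R, g x ∈ R) (e : R ≃ₗ[F] R'),
      R ≠ ⊥ ∧ NondegOn B R ∧ NondegOn B' R' ∧ (∀ x ∈ R', g' x ∈ R') ∧
        (∀ x y : R, B' (e x) (e y) = B x y) ∧
        ∀ x : R, g' (e x) = ((e ⟨g x, hR x x.2⟩ : R') : W) := by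
  have mk : ∀ {M : Type _} [AddCommGroup M] [Module F M] (L : M →ₗ[F] V) (L' : M →ₗ[F] W) (T : M → M),
      (∀ m, g (L m) = L (T m)) → (∀ m, g' (L' m) = L' (T m)) → (∃ m, L m ≠ 0) →
      NondegOn B (LinearMap.range L) → NondegOn B' (LinearMap.range L') →
      (∀ a b, B' (L' a) (L' b) = B (L a) (L b)) →
      ∃ (R : Submodule F V) (R' : Submodule F W) (hR : ∀ x ∈ R, g x ∈ R) (e : R ≃ₗ[F] R'),
        R ≠ ⊥ ∧ NondegOn B R ∧ NondegOn B' R' ∧ (∀ x ∈ R', g' x ∈ R') ∧
          (∀ x y : R, B' (e x) (e y) = B x y) ∧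
          ∀ x : R, g' (e x) = ((e ⟨g x, hR x x.2⟩ : R') : W) := by
    intro M _ _ L L' T hT hT' hne hR hR' hG
    obtain ⟨e, he, hiso⟩ := exists_range_equiv H H' L L' hR hR' hG
    refine ⟨_, _, by rintro _ ⟨m, rfl⟩; exact ⟨T m, (hT m).symm⟩, e, ?_, hR, hR',
      by rintro _ ⟨m, rfl⟩; exact ⟨T m, (hT' m).symm⟩, hiso, ?_⟩
    · intro h
      obtain ⟨m, hm⟩ := hne
      exact hm ((Submodule.eq_bot_iff _).1 h _ ⟨m, rfl⟩)
    · rintro ⟨_, m, rfl⟩
      rw [he, hT', ← he (T m)]
      congr 2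
      exact Subtype.ext (hT m).symm
  by_cases hS : SelfPaired σ N f
  · obtain ⟨v, hvf, hvne⟩ := exists_self_vector H G hN hσ hNF hnd hf hv hfv hS
    obtain ⟨w, hwf, hwne⟩ := exists_self_vector H' G' hN hσ hNF hnd' hf hw hfw hS
    let Φ : F[X] →ₗ[F] F :=
      { toFun := fun p => B (aeval g p v) v
        map_add' := fun p r => by rw [map_add, LinearMap.add_apply, H.add_left]
        map_smul' := fun c p => by rw [map_smul, LinearMap.smul_apply, H.smul_left]; rfl }
    let Ψ : F[X] →ₗ[F] F :=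
      { toFun := fun p => B' (aeval g' p w) w
        map_add' := fun p r => by rw [map_add, LinearMap.add_apply, H'.add_left]
        map_smul' := fun c p => by rw [map_smul, LinearMap.smul_apply, H'.smul_left]; rfl }
    have hΦ : ∀ p, Φ p = B (aeval g p v) v := fun _ => rfl
    have hΨ : ∀ p, Ψ p = B' (aeval g' p w) w := fun _ => rfl
    obtain ⟨s, hs⟩ := exists_scale hf hm Φ Ψ
      (fun p hp => by rw [hΦ, aeval_eq_zero_of_dvd hvf hp, H.zero_left])
      (fun p hp => by rw [hΨ, aeval_eq_zero_of_dvd hwf hp, H'.zero_left]) hvne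
    have hΦsym : ∀ p, Φ (bar σ N p) = ε * σ (Φ p) := fun p => by
      rw [hΦ, hΦ, ← H.symm, adjoint_right H G hN]
    have hΨsym : ∀ p, Ψ (bar σ N p) = ε * σ (Ψ p) := fun p => by
      rw [hΨ, hΨ, ← H'.symm, adjoint_right H' G' hN]
    have hbb : ∀ p r, Φ (bar σ N (bar σ N p) * r) = Φ (p * r) := fun p r => by
      rw [hΦ, hΦ, map_mul, map_mul, aeval_bar_bar hσ hN G.pow]
    have hΨbb : ∀ p, Ψ (bar σ N (bar σ N p)) = Ψ p := fun p => by
      rw [hΨ, hΨ, aeval_bar_bar hσ hN G'.pow]
    have hfix : f ∣ bar σ N s - s := by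
      obtain ⟨p₀, hp₀⟩ := hvne
      refine dvd_of_aeval_eq_zero hf (fun h0 => hp₀ (by rw [h0, map_zero, H.zero_left])) hvf
        (aeval_eq_zero_of_pairing H G hN hσ hf hvf ⟨p₀, hp₀⟩ _ fun p => ?_)
      rw [← hΦ, mul_sub, map_sub, sub_eq_zero]
      have h1 : Φ (p * bar σ N s) = ε * σ (Φ (bar σ N p * s)) := by
        rw [← hΦsym, map_mul (bar σ N), hbb]
      rw [h1, ← hs, ← hs, ← hΨsym, hΨbb]
    obtain ⟨hfb, c₀, hc₀⟩ := hS
    haveI := Fact.mk hf
    haveI : Module.Finite F (AdjoinRoot f) := (AdjoinRoot.powerBasis hf.ne_zero).finite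
    haveI : Finite (AdjoinRoot f) := Module.finite_of_finite F
    let ι : AdjoinRoot f →+* AdjoinRoot f :=
      Ideal.Quotient.lift (Ideal.span {f}) ((AdjoinRoot.mk f).comp (bar σ N)) fun a ha => by
        obtain ⟨t, rfl⟩ := Ideal.mem_span_singleton.1 ha
        rw [RingHom.comp_apply, map_mul, AdjoinRoot.mk_eq_zero]
        exact hfb.mul_right _
    have hι : ∀ p, ι (AdjoinRoot.mk f p) = AdjoinRoot.mk f (bar σ N p) := fun p => rfl
    have hv0 : v ≠ 0 := fun h0 => by
      obtain ⟨p₀, hp₀⟩ := hvne; exact hp₀ (by rw [h0, map_zero, H.zero_left])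
    have hιι : ∀ x, ι (ι x) = x := by
      intro x
      obtain ⟨p, rfl⟩ := AdjoinRoot.mk_surjective x
      rw [hι, hι, AdjoinRoot.mk_eq_mk]
      exact dvd_of_aeval_eq_zero hf hv0 hvf
        (by rw [map_sub, aeval_bar_bar hσ hN G.pow, sub_self, LinearMap.zero_apply])
    obtain ⟨c', hc'⟩ := exists_norm ι hιι (δ := AdjoinRoot.mk f c₀)
      (by rw [hι, Ne, AdjoinRoot.mk_eq_mk, dvd_sub_comm]; exact hc₀)
      (s := AdjoinRoot.mk f s) (by rw [hι, AdjoinRoot.mk_eq_mk]; exact hfix)
    obtain ⟨c, rfl⟩ := AdjoinRoot.mk_surjective c'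
    rw [hι, ← map_mul, AdjoinRoot.mk_eq_mk] at hc'
    set v₁ := aeval g c v with hv₁
    have hv₁f : aeval g f v₁ = 0 := by
      rw [hv₁, ← Module.End.mul_apply, ← map_mul, mul_comm, map_mul, Module.End.mul_apply, hvf, map_zero]
    have key : ∀ p : F[X], B (aeval g p v₁) v₁ = B' (aeval g' p w) w := by
      intro p
      rw [← hΨ, hs, hv₁, adjoint_right H G hN, ← Module.End.mul_apply, ← map_mul,
        ← Module.End.mul_apply, ← map_mul, ← hΦ, ← sub_eq_zero, ← map_sub, hΦ,
        aeval_eq_zero_of_dvd hvf (by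
          rw [show bar σ N c * p * c - p * s = p * (c * bar σ N c - s) by ring]
          exact hc'.mul_left p), H.zero_left]
    have hne1 : ∃ p : F[X], B (aeval g p v₁) v₁ ≠ 0 := by
      obtain ⟨p, hp⟩ := hwne; exact ⟨p, by rw [key]; exact hp⟩
    refine mk (Semisimple.orbitMap g v₁) (Semisimple.orbitMap g' w) (X * ·)
      (fun _ => Semisimple.apply_orbitMap _ _ _) (fun _ => Semisimple.apply_orbitMap _ _ _) ?_ ?_ ?_ ?_
    · obtain ⟨p, hp⟩ := hne1
      exact ⟨p, fun h0 => hp (by rw [Semisimple.orbitMap_apply] at h0; rw [h0, H.zero_left])⟩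
    · rintro _ ⟨a, rfl⟩ hx
      refine aeval_eq_zero_of_pairing H G hN hσ hf hv₁f hne1 a fun p => ?_
      have h := hx _ ⟨bar σ N p, rfl⟩
      simp only [Semisimple.orbitMap_apply] at h
      rwa [adjoint_right H G hN, ← Module.End.mul_apply, ← map_mul, map_mul,
        aeval_bar_bar hσ hN G.pow, ← map_mul] at h
    · rintro _ ⟨a, rfl⟩ hx
      refine aeval_eq_zero_of_pairing H' G' hN hσ hf hwf hwne a fun p => ?_
      have h := hx _ ⟨bar σ N p, rfl⟩
      simp only [Semisimple.orbitMap_apply] at h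
      rwa [adjoint_right H' G' hN, ← Module.End.mul_apply, ← map_mul, map_mul,
        aeval_bar_bar hσ hN G'.pow, ← map_mul] at h
    · intro a b
      simp only [Semisimple.orbitMap_apply]
      rw [adjoint_right H' G' hN, ← Module.End.mul_apply, ← map_mul, ← key, map_mul,
        Module.End.mul_apply, ← adjoint_right H G hN]
  · obtain ⟨z, hzf, hvz, hviso, hziso⟩ := exists_pair_vectors H G hN hσ hNF hnd hf hv hfv hS
    obtain ⟨z', hz'f, hwz, hwiso, hz'iso⟩ := exists_pair_vectors H' G' hN hσ hNF hnd' hf hw hfw hS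
    let Φ : F[X] →ₗ[F] F :=
      { toFun := fun p => B (aeval g p v₀) z
        map_add' := fun p r => by rw [map_add, LinearMap.add_apply, H.add_left]
        map_smul' := fun c p => by rw [map_smul, LinearMap.smul_apply, H.smul_left]; rfl }
    let Ψ : F[X] →ₗ[F] F :=
      { toFun := fun p => B' (aeval g' p w₀) z'
        map_add' := fun p r => by rw [map_add, LinearMap.add_apply, H'.add_left]
        map_smul' := fun c p => by rw [map_smul, LinearMap.smul_apply, H'.smul_left]; rfl }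
    have hΦ : ∀ p, Φ p = B (aeval g p v₀) z := fun _ => rfl
    have hΨ : ∀ p, Ψ p = B' (aeval g' p w₀) z' := fun _ => rfl
    obtain ⟨s, hs⟩ := exists_scale hf hm Φ Ψ
      (fun p hp => by rw [hΦ, aeval_eq_zero_of_dvd hfv hp, H.zero_left])
      (fun p hp => by rw [hΨ, aeval_eq_zero_of_dvd hfw hp, H'.zero_left])
      ⟨1, by rw [hΦ]; simpa using hvz⟩
    set z₁ := aeval g (bar σ N s) z with hz₁
    have hz₁f : aeval g (bar σ N f) z₁ = 0 := by
      rw [hz₁, ← Module.End.mul_apply, ← map_mul, mul_comm, map_mul, Module.End.mul_apply, hzf, map_zero]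
    have hz₁iso : ∀ p : F[X], B (aeval g p z₁) z₁ = 0 := fun p => by
      rw [hz₁, adjoint_right H G hN, ← Module.End.mul_apply, ← map_mul, ← Module.End.mul_apply, ← map_mul,
        hziso]
    have key : ∀ p : F[X], B (aeval g p v₀) z₁ = B' (aeval g' p w₀) z' := fun p => by
      rw [← hΨ, hs, hz₁, adjoint_right H G hN, aeval_bar_bar hσ hN G.pow, hΦ, ← Module.End.mul_apply,
        ← map_mul, mul_comm]
    have hvz₁ : B v₀ z₁ ≠ 0 := by
      have h := key 1
      simp only [map_one, Module.End.one_apply] at h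
      rw [h]; exact hwz
    refine mk ((Semisimple.orbitMap g v₀).coprod (Semisimple.orbitMap g z₁))
      ((Semisimple.orbitMap g' w₀).coprod (Semisimple.orbitMap g' z'))
      (fun m => (X * m.1, X * m.2))
      (fun m => by simp) (fun m => by simp) ⟨(1, 0), by simpa using hv⟩
      (pair_nondeg H G hN hσ hf v₀ z₁ hviso hz₁iso hv hfv hz₁f hvz₁)
      (pair_nondeg H' G' hN hσ hf w₀ z' hwiso hz'iso hw hfw hz'f hwz) ?_
    rintro ⟨a, b⟩ ⟨c, d⟩
    simp only [LinearMap.coprod_apply, Semisimple.orbitMap_apply]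
    rw [pair_gram H G hN v₀ z₁ hviso hz₁iso, pair_gram H' G' hN w₀ z' hwiso hz'iso, key, key]

end Blocks

section Main

/-- Restrictions of an isometry to an invariant subspace. -/
theorem IsIsom.restrict {B : V → V → F} {g : Module.End F V} (G : IsIsom N B g) {U : Submodule F V}
    (hU : ∀ x ∈ U, g x ∈ U) : IsIsom N (fun x y : U => B x y) (g.restrict hU) where
  isom x y := G.isom _ _
  pow := by
    have h : ∀ k, ∀ x : U, ((((g.restrict hU) ^ k) x : U) : V) = (g ^ k) x := by
      intro k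
      induction k with
      | zero => intro x; rfl
      | succ k ih => intro x; rw [pow_succ, pow_succ, Module.End.mul_apply, Module.End.mul_apply, ih]; rfl
    refine LinearMap.ext fun x => Subtype.ext ?_
    rw [h, G.pow]; rfl

/-- Semisimple isometries with the same characteristic polynomial are isometric. -/
theorem exists_isometry [Finite F] [FiniteDimensional F V] {W : Type*} [AddCommGroup W] [Module F W]
    [FiniteDimensional F W] {B : V → V → F} {g : Module.End F V} (H : IsForm σ ε B) (G : IsIsom N B g)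
    {B' : W → W → F} {g' : Module.End F W} (H' : IsForm σ ε B') (G' : IsIsom N B' g')
    (hN : 0 < N) (hσ : ∀ a, σ (σ a) = a) (hNF : (N : F) ≠ 0)
    (hnd : ∀ x, (∀ y, B x y = 0) → x = 0) (hnd' : ∀ x, (∀ y, B' x y = 0) → x = 0)
    (hchar : g.charpoly = g'.charpoly) :
    ∃ e : V ≃ₗ[F] W, (∀ x y, B' (e x) (e y) = B x y) ∧ ∀ x, g' (e x) = e (g x) := by
  obtain ⟨n, hn⟩ : ∃ n, Module.finrank F V = n := ⟨_, rfl⟩
  induction n using Nat.strong_induction_on generalizing V W with
  | _ n ih =>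
    have hdim : Module.finrank F W = n := by
      rw [← LinearMap.charpoly_natDegree g', ← hchar, LinearMap.charpoly_natDegree, hn]
    rcases Nat.eq_zero_or_pos n with rfl | hpos
    · haveI : Subsingleton V := Module.finrank_zero_iff.1 hn
      haveI : Subsingleton W := Module.finrank_zero_iff.1 hdim
      refine ⟨LinearEquiv.ofFinrankEq V W (hn.trans hdim.symm), fun x y => ?_, fun x => Subsingleton.elim _ _⟩
      rw [Subsingleton.elim x 0, map_zero, H'.zero_left, H.zero_left]
    obtain ⟨f, hfm, hf, hdvd⟩ := exists_monic_irreducible_factor g.charpoly (fun hu => by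
      have h0 := natDegree_eq_zero_of_isUnit hu
      rw [LinearMap.charpoly_natDegree, hn] at h0
      omega)
    obtain ⟨v, hv, hfv⟩ := Semisimple.exists_aeval_eq_zero_of_dvd_charpoly g hf hdvd
    obtain ⟨w, hw, hfw⟩ := Semisimple.exists_aeval_eq_zero_of_dvd_charpoly g' hf (hchar ▸ hdvd)
    obtain ⟨R, R', hRi, e, hR0, hR, hR', hRi', hiso, hint⟩ :=
      exists_block H G H' G' hN hσ hNF hnd hnd' hf hfm hv hfv hw hfw
    have hc := isCompl_orth H hR
    have hc' := isCompl_orth H' hR'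
    have hUi := orth_invariant H G hN hRi
    have hUi' := orth_invariant H' G' hN hRi'
    have hconj : e.conj (g.restrict hRi) = g'.restrict hRi' := by
      refine LinearMap.ext fun x => ?_
      obtain ⟨y, rfl⟩ := e.surjective x
      rw [LinearEquiv.conj_apply_apply, e.symm_apply_apply]
      exact Subtype.ext (hint y).symm
    have hch : (g.restrict hUi).charpoly = (g'.restrict hUi').charpoly := by
      have h := hchar
      rw [Semisimple.charpoly_eq_mul hc hRi hUi, Semisimple.charpoly_eq_mul hc' hRi' hUi', ← hconj,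
        LinearEquiv.charpoly_conj] at h
      exact mul_left_cancel₀ (LinearMap.charpoly_monic _).ne_zero h
    have hlt : Module.finrank F (orth H R) < n := by
      have h := Submodule.finrank_add_eq_of_isCompl hc
      have : Module.finrank F R ≠ 0 := fun h0 => hR0 (Submodule.finrank_eq_zero.1 h0)
      omega
    obtain ⟨d, hd, hd'⟩ := ih _ hlt (V := orth H R) (W := orth H' R') (H.restrict _) (G.restrict hUi)
      (H'.restrict _) (G'.restrict hUi')
      (fun x hx => Subtype.ext (nondegOn_orth H hR hnd x x.2 fun y hy => hx ⟨y, hy⟩))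
      (fun x hx => Subtype.ext (nondegOn_orth H' hR' hnd' x x.2 fun y hy => hx ⟨y, hy⟩)) hch rfl
    let E : V ≃ₗ[F] W := (Submodule.prodEquivOfIsCompl _ _ hc).symm.trans
      ((e.prodCongr d).trans (Submodule.prodEquivOfIsCompl _ _ hc'))
    have hE : ∀ (r : R) (u : orth H R), E ((r : V) + u) = (e r : W) + d u := by
      intro r u
      have h : (Submodule.prodEquivOfIsCompl _ _ hc).symm ((r : V) + u) = (r, u) :=
        (LinearEquiv.symm_apply_eq _).2 rfl
      simp [E, h]
    refine ⟨E, fun x y => ?_, fun x => ?_⟩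
    · obtain ⟨⟨r, u⟩, rfl⟩ := (Submodule.prodEquivOfIsCompl _ _ hc).surjective x
      obtain ⟨⟨r', u'⟩, rfl⟩ := (Submodule.prodEquivOfIsCompl _ _ hc).surjective y
      simp only [Submodule.coe_prodEquivOfIsCompl', hE, H'.add_left, H'.add_right, H.add_left, H.add_right]
      have hd2 : B' (d u : W) (d u' : W) = B (u : V) u' := hd u u'
      rw [hiso, hd2, u.2 r' r'.2, H.eq_zero_symm (u'.2 r r.2), (d u).2 _ (e r').2,
        H'.eq_zero_symm ((d u').2 _ (e r).2)]
    · obtain ⟨⟨r, u⟩, rfl⟩ := (Submodule.prodEquivOfIsCompl _ _ hc).surjective x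
      simp only [Submodule.coe_prodEquivOfIsCompl', hE, map_add g]
      rw [show g (r : V) + g (u : V) = ((⟨g r, hRi r r.2⟩ : R) : V) + ((⟨g u, hUi u u.2⟩ : orth H R) : V) from rfl,
        hE, map_add, hint]
      exact congrArg (_ + ·) (congrArg Subtype.val (hd' u))

end Main

end Cfsg.Agent.FormClasses
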