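import Cfsg.Agent.EqLemmas
import Cfsg.Agent.Lib.FormClasses.Classes

/-!
Determinants in the unitary centraliser of a semisimple isometry.
-/

set_option autoImplicit false

namespace Cfsg.Agent.FormClasses

open Polynomial

variable {F : Type*} [Field F] {σ : F →+* F} {ε : F} {N : ℕ}
variable {V : Type*} [AddCommGroup V] [Module F V] [FiniteDimensional F V]

theorem IsForm.sum_left {B : V → V → F} (H : IsForm σ ε B) {ι : Type*} (s : Finset ι) (x : ι → V) (z : V) :
    B (∑ i ∈ s, x i) z = ∑ i ∈ s, B (x i) z :=
  map_sum ({ toFun := fun x => B x z, map_zero' := H.zero_left z,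
             map_add' := fun x y => H.add_left x y z } : V →+ F) x s

theorem IsForm.sum_right {B : V → V → F} (H : IsForm σ ε B) {ι : Type*} (s : Finset ι) (x : ι → V) (z : V) :
    B z (∑ i ∈ s, x i) = ∑ i ∈ s, B z (x i) :=
  map_sum ({ toFun := fun x => B z x, map_zero' := H.zero_right z,
             map_add' := fun x y => H.add_right z x y } : V →+ F) x s

/-- The determinant of an adjoint. -/
theorem det_adjoint {B : V → V → F} (H : IsForm σ ε B) (hnd : ∀ x, (∀ y, B x y = 0) → x = 0)
    (a b : Module.End F V) (hab : ∀ x y, B (a x) y = B x (b y)) :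
    LinearMap.det a = σ (LinearMap.det b) := by
  classical
  let β := Module.finBasis F V
  let G : Matrix (Fin (Module.finrank F V)) (Fin (Module.finrank F V)) F := Matrix.of fun i j => B (β i) (β j)
  have hG : G.det ≠ 0 := by
    intro h0
    obtain ⟨v, hv, hvG⟩ := Matrix.exists_vecMul_eq_zero_iff.2 h0
    refine hv ?_
    have hx : ∑ i, v i • β i = 0 := hnd _ fun y => by
      rw [← β.sum_repr y, H.sum_right]
      refine Finset.sum_eq_zero fun j _ => ?_
      rw [H.smul_right, H.sum_left]
      have := congrFun hvG j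
      simp only [Matrix.vecMul, dotProduct, G, Matrix.of_apply, Pi.zero_apply] at this
      rw [show ∑ i, B (v i • β i) (β j) = 0 by simpa [H.smul_left] using this, mul_zero]
    exact funext fun i => Fintype.linearIndependent_iff.1 β.linearIndependent v hx i
  have key : (LinearMap.toMatrix β β a).transpose * G = G * σ.mapMatrix (LinearMap.toMatrix β β b) := by
    ext i j
    have h1 : B (a (β i)) (β j) = ∑ k, LinearMap.toMatrix β β a k i * G k j := by
      conv_lhs => rw [← β.sum_repr (a (β i))]
      rw [H.sum_left]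
      exact Finset.sum_congr rfl fun k _ => by rw [H.smul_left, LinearMap.toMatrix_apply]; rfl
    have h2 : B (β i) (b (β j)) = ∑ k, G i k * σ (LinearMap.toMatrix β β b k j) := by
      conv_lhs => rw [← β.sum_repr (b (β j))]
      rw [H.sum_right]
      exact Finset.sum_congr rfl fun k _ => by
        rw [H.smul_right, LinearMap.toMatrix_apply, mul_comm]; rfl
    simp only [Matrix.mul_apply, Matrix.transpose_apply, RingHom.mapMatrix_apply, Matrix.map_apply]
    rw [← h1, ← h2, hab]
  have h := congrArg Matrix.det key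
  rw [Matrix.det_mul, Matrix.det_mul, Matrix.det_transpose, ← RingHom.map_det, LinearMap.det_toMatrix,
    LinearMap.det_toMatrix, mul_comm] at h
  exact mul_left_cancel₀ hG h

theorem det_mul_conj_of_isom {B : V → V → F} (H : IsForm σ ε B)
    (hnd : ∀ x, (∀ y, B x y = 0) → x = 0) (e : V ≃ₗ[F] V) (he : ∀ x y, B (e x) (e y) = B x y) :
    LinearMap.det (e : Module.End F V) * σ (LinearMap.det (e : Module.End F V)) = 1 := by
  have h := det_adjoint H hnd (e : Module.End F V) (e.symm : Module.End F V) fun x y => by
    conv_lhs => rw [← e.apply_symm_apply y]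
    exact he x _
  rw [h, mul_comm (σ (LinearMap.det (e.symm : Module.End F V))), ← map_mul, ← h, ← map_mul,
    show (e : Module.End F V) * (e.symm : Module.End F V) = 1 from
      LinearMap.ext fun x => e.apply_symm_apply x, map_one, map_one]

variable [Finite F]

/-- The unitary centraliser of a semisimple isometry attains every norm-one determinant. -/
theorem exists_centralizer_det [Nontrivial V] {B : V → V → F} {g : Module.End F V} (H : IsForm σ ε B)
    (G : IsIsom N B g) (hN : 0 < N) (hσ : ∀ a, σ (σ a) = a) (hNF : (N : F) ≠ 0)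
    (hnd : ∀ x, (∀ y, B x y = 0) → x = 0) {a₀ : F} (ha₀ : σ a₀ ≠ a₀) {z : F} (hz : z * σ z = 1) :
    ∃ T : V ≃ₗ[F] V, (∀ x y, B (T x) (T y) = B x y) ∧ (∀ x, T (g x) = g (T x)) ∧
      LinearMap.det (T : Module.End F V) = z := by
  obtain ⟨a, ha, haz⟩ : ∃ a, a ≠ 0 ∧ a = z * σ a := by
    by_cases h : (1 : F) + z ≠ 0
    · exact ⟨1 + z, h, by rw [map_add, map_one]; linear_combination -hz⟩
    · push Not at h
      refine ⟨a₀ - σ a₀, sub_ne_zero.2 (Ne.symm ha₀), ?_⟩
      rw [map_sub, hσ]
      linear_combination (a₀ - σ a₀) * h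
  obtain ⟨f, hfm, hf, hdvd⟩ := exists_monic_irreducible_factor g.charpoly (fun hu => by
    have h0 := natDegree_eq_zero_of_isUnit hu
    rw [LinearMap.charpoly_natDegree] at h0
    exact (Module.finrank_pos (R := F) (M := V)).ne' h0)
  obtain ⟨v₀, hv, hfv⟩ := Semisimple.exists_aeval_eq_zero_of_dvd_charpoly g hf hdvd
  -- a cyclic non-degenerate subspace
  obtain ⟨u₀, hu₀, hR⟩ : ∃ u₀, u₀ ≠ 0 ∧ NondegOn B (LinearMap.range (Semisimple.orbitMap g u₀)) := by
    by_cases hS : SelfPaired σ N f
    · obtain ⟨v, hvf, hvne⟩ := exists_self_vector H G hN hσ hNF hnd hf hv hfv hS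
      refine ⟨v, fun h0 => ?_, ?_⟩
      · obtain ⟨p, hp⟩ := hvne; exact hp (by rw [h0, map_zero, H.zero_left])
      rintro _ ⟨a, rfl⟩ hx
      refine aeval_eq_zero_of_pairing H G hN hσ hf hvf hvne a fun p => ?_
      have h := hx _ ⟨bar σ N p, rfl⟩
      simp only [Semisimple.orbitMap_apply] at h
      rwa [adjoint_right H G hN, ← Module.End.mul_apply, ← map_mul, map_mul,
        aeval_bar_bar hσ hN G.pow, ← map_mul] at h
    · obtain ⟨w, hwf, hvw, hviso, hwiso⟩ := exists_pair_vectors H G hN hσ hNF hnd hf hv hfv hS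
      have hfb : ¬ f ∣ bar σ N f := fun hd => hS ⟨hd, C a₀, fun h => by
        rw [bar_C, ← map_sub] at h
        exact hf.not_isUnit (isUnit_of_dvd_unit h
          (isUnit_C.2 (Ne.isUnit (sub_ne_zero.2 (Ne.symm ha₀)))))⟩
      obtain ⟨s, t, hst⟩ := hf.coprime_iff_not_dvd.2 hfb
      have e1 : aeval g (t * bar σ N f) (v₀ + w) = v₀ := by
        have h := LinearMap.congr_fun (congrArg (aeval g) hst) v₀
        simp only [map_add, map_mul, map_one, LinearMap.add_apply, Module.End.mul_apply,
          Module.End.one_apply, hfv, map_zero, zero_add] at h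
        rw [map_add, map_mul, Module.End.mul_apply, Module.End.mul_apply, hwf, map_zero, add_zero, h]
      have e2 : aeval g (s * f) (v₀ + w) = w := by
        have h := LinearMap.congr_fun (congrArg (aeval g) hst) w
        simp only [map_add, map_mul, map_one, LinearMap.add_apply, Module.End.mul_apply,
          Module.End.one_apply, hwf, map_zero, add_zero] at h
        rw [map_add, map_mul, Module.End.mul_apply, Module.End.mul_apply, hfv, map_zero, zero_add, h]
      refine ⟨v₀ + w, fun h0 => hv (by rw [← e1, h0, map_zero]), ?_⟩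
      have hr : LinearMap.range (Semisimple.orbitMap g (v₀ + w)) = LinearMap.range
          ((Semisimple.orbitMap g v₀).coprod (Semisimple.orbitMap g w)) := by
        refine le_antisymm ?_ ?_
        · rintro _ ⟨c, rfl⟩
          exact ⟨(c, c), by simp⟩
        · rintro _ ⟨⟨c, d⟩, rfl⟩
          refine ⟨c * (t * bar σ N f) + d * (s * f), ?_⟩
          simp only [Semisimple.orbitMap_apply, LinearMap.coprod_apply]
          rw [map_add (aeval g) (c * (t * bar σ N f)) (d * (s * f)), LinearMap.add_apply, map_mul _ c, map_mul _ d,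
            Module.End.mul_apply, Module.End.mul_apply, e1, e2]
      rw [hr]
      exact pair_nondeg H G hN hσ hf v₀ w hviso hwiso hv hfv hwf hvw
  set R := LinearMap.range (Semisimple.orbitMap g u₀) with hRdef
  have hu₀R : u₀ ∈ R := ⟨1, by simp⟩
  haveI : Nontrivial R := Submodule.nontrivial_iff_ne_bot.2 fun h => hu₀ (by
    rwa [h, Submodule.mem_bot] at hu₀R)
  have hRi := Semisimple.range_invt g u₀
  have hss : g.IsSemisimple := by
    refine Module.End.isSemisimple_of_squarefree_aeval_eq_zero (p := X ^ N - 1) ?_ (by simp [G.pow])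
    rw [← map_one (C : F →+* F[X])]
    exact (separable_X_pow_sub_C 1 hNF one_ne_zero).squarefree
  set gR := g.restrict hRi
  have HR := H.restrict R
  have GR : IsIsom N (fun x y : R => B x y) gR := G.restrict hRi
  have hndR : ∀ x : R, (∀ y : R, B x y = 0) → x = 0 := fun x hx =>
    Subtype.ext (hR x x.2 fun y hy => hx ⟨y, hy⟩)
  obtain ⟨d, hdc, hdd⟩ := Semisimple.exists_commute_det gR (Semisimple.isSemisimple_restrict hss hRi)
    (Units.mk0 a ha)
  rw [Units.val_mk0] at hdd
  have hval : ∀ (q : F[X]) (y : R), ((aeval gR q y : R) : V) = aeval g q y := by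
    intro q
    induction q using Polynomial.induction_on with
    | C c => intro y; simp [Algebra.algebraMap_eq_smul_one]
    | add q r hq hr => intro y; simp [map_add, hq y, hr y]
    | monomial k c ih =>
      intro y
      simp only [pow_succ, ← mul_assoc]
      rw [map_mul (aeval gR) (C c * Polynomial.X ^ k), map_mul (aeval g) (C c * Polynomial.X ^ k),
        aeval_X, aeval_X, Module.End.mul_apply, Module.End.mul_apply, ih (gR y)]
      rfl
  obtain ⟨p, hp⟩ : ∃ p : F[X], d = aeval gR p := by
    have hall : ∀ c : F[X], Commute (aeval gR c) d := by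
      intro c
      induction c using Polynomial.induction_on with
      | C c => rw [aeval_C]; exact Algebra.commutes c d
      | add q r hq hr => rw [map_add]; exact hq.add_left hr
      | monomial k c ih =>
        rw [pow_succ, ← mul_assoc, map_mul, aeval_X]
        exact ih.mul_left hdc.symm
    obtain ⟨p, hp⟩ := (d ⟨u₀, hu₀R⟩).2
    refine ⟨p, LinearMap.ext fun x => ?_⟩
    obtain ⟨c, hc⟩ := x.2
    have hxc : x = aeval gR c ⟨u₀, hu₀R⟩ := Subtype.ext (by rw [hval]; exact hc.symm)
    have hcomm := hall c
    rw [hxc, ← Module.End.mul_apply d, ← hcomm.eq, Module.End.mul_apply,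
      show d ⟨u₀, hu₀R⟩ = aeval gR p ⟨u₀, hu₀R⟩ from Subtype.ext (by rw [hval]; exact hp.symm),
      ← Module.End.mul_apply, ← map_mul, mul_comm, map_mul, Module.End.mul_apply]
  have hadj : ∀ x y : R, B (aeval gR p x : R) y = B x (aeval gR (bar σ N p) y : R) := fun x y =>
    adjoint_left HR GR hN p x y
  have hdb := det_adjoint HR hndR _ _ hadj
  rw [← hp, hdd] at hdb
  have hb0 : LinearMap.det (aeval gR (bar σ N p)) ≠ 0 := fun h0 => ha (by rw [hdb, h0, map_zero])
  let db := LinearMap.equivOfDetNeZero (aeval gR (bar σ N p)) hb0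
  let D := LinearMap.equivOfDetNeZero d (by rw [hdd]; exact ha)
  let TR : R ≃ₗ[F] R := db.symm.trans D
  have hU := isCompl_orth H hR
  have hUi := orth_invariant H G hN hRi
  let T : V ≃ₗ[F] V := (Submodule.prodEquivOfIsCompl _ _ hU).symm.trans
    ((TR.prodCongr (LinearEquiv.refl F _)).trans (Submodule.prodEquivOfIsCompl _ _ hU))
  have hT : ∀ (r : R) (u : orth H R), T ((r : V) + u) = (TR r : V) + u := by
    intro r u
    have h : (Submodule.prodEquivOfIsCompl _ _ hU).symm ((r : V) + u) = (r, u) :=
      (LinearEquiv.symm_apply_eq _).2 rfl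
    simp [T, h]
  have hdval : ∀ r, (db r : R) = aeval gR (bar σ N p) r := fun r => rfl
  have hDval : ∀ r, (D r : R) = aeval gR p r := fun r => by rw [← hp]; rfl
  have hisoR : ∀ x y : R, B (TR x : R) (TR y : R) = B x y := by
    intro x y
    obtain ⟨x, rfl⟩ := db.surjective x
    obtain ⟨y, rfl⟩ := db.surjective y
    simp only [TR, LinearEquiv.trans_apply, LinearEquiv.symm_apply_apply]
    rw [hDval, hDval, hdval, hdval]
    show B (aeval gR p x : R) (aeval gR p y : R) = _
    rw [hadj, ← Module.End.mul_apply, ← map_mul, mul_comm, map_mul, Module.End.mul_apply]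
    exact adjoint_right HR GR hN p x _
  have hcommR : ∀ x, TR (gR x) = gR (TR x) := by
    intro x
    obtain ⟨x, rfl⟩ := db.surjective x
    have hc : ∀ q : F[X], gR (aeval gR q x) = aeval gR q (gR x) := fun q => by
      have := LinearMap.congr_fun (congrArg (aeval gR) (mul_comm Polynomial.X q)) x
      simpa [map_mul, aeval_X, Module.End.mul_apply] using this
    have : gR (db x) = db (gR x) := by rw [hdval, hdval, hc]
    simp only [TR, LinearEquiv.trans_apply, this, LinearEquiv.symm_apply_apply]
    rw [hDval, hDval, hc]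
  refine ⟨T, fun x y => ?_, fun x => ?_, ?_⟩
  · obtain ⟨⟨r, u⟩, rfl⟩ := (Submodule.prodEquivOfIsCompl _ _ hU).surjective x
    obtain ⟨⟨r', u'⟩, rfl⟩ := (Submodule.prodEquivOfIsCompl _ _ hU).surjective y
    simp only [Submodule.coe_prodEquivOfIsCompl', hT, H.add_left, H.add_right]
    rw [hisoR, u.2 r' r'.2, H.eq_zero_symm (u'.2 r r.2), u.2 _ (TR r').2,
      H.eq_zero_symm (u'.2 _ (TR r).2)]
  · obtain ⟨⟨r, u⟩, rfl⟩ := (Submodule.prodEquivOfIsCompl _ _ hU).surjective x
    simp only [Submodule.coe_prodEquivOfIsCompl', hT, map_add g]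
    rw [show g (r : V) + g (u : V) = ((gR r : R) : V) + ((⟨g u, hUi u u.2⟩ : orth H R) : V) from rfl,
      hT, hcommR]
    rfl
  · have hTc : (T : Module.End F V) = (Submodule.prodEquivOfIsCompl _ _ hU).conj
        ((TR : Module.End F R).prodMap (LinearMap.id : Module.End F (orth H R))) := by
      apply LinearMap.ext
      intro x
      simp [T, LinearEquiv.conj_apply]
    rw [hTc, LinearEquiv.conj_apply, LinearMap.comp_assoc, LinearMap.det_conj, LinearMap.det_prodMap,
      LinearMap.det_id, mul_one]
    have h1 : LinearMap.det (TR : Module.End F R) * LinearMap.det (aeval gR (bar σ N p)) = a := by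
      rw [← map_mul, ← hdd]
      congr 1
      apply LinearMap.ext
      intro x
      show D (db.symm (db x)) = d x
      rw [db.symm_apply_apply]
      rfl
    refine mul_right_cancel₀ hb0 (h1.trans ?_)
    rw [show LinearMap.det (aeval gR (bar σ N p)) = σ a by rw [hdb, hσ]]
    exact haz

end Cfsg.Agent.FormClasses
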