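import Cfsg.Agent.EqLemmas
import Cfsg.Agent.Lib.FormClasses.Det
import Cfsg.Agent.Lib.GLOrder.Symplectic
import Cfsg.Agent.Lib.Unitary.Group

/-!
Semisimple classes of `Sp_{2n}` and `SU_n` are determined by characteristic polynomials.
-/

set_option autoImplicit false

namespace Cfsg.Agent.FormClasses

open Matrix

variable {F : Type*} [Field F] {ι : Type*} [Fintype ι] [DecidableEq ι]

theorem natCast_ne_zero_of_coprime {p N : ℕ} [hp : Fact p.Prime] [CharP F p] (h : N.Coprime p) :
    (N : F) ≠ 0 := fun h0 => hp.out.ne_one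
  (Nat.eq_one_of_dvd_coprimes h ((CharP.cast_eq_zero_iff F p N).1 h0) dvd_rfl)

theorem toLin_isIsom {B : (ι → F) → (ι → F) → F} {N : ℕ} {M : Matrix ι ι F}
    (hM : ∀ u v, B (M *ᵥ u) (M *ᵥ v) = B u v) (hpow : M ^ N = 1) :
    IsIsom N B (Matrix.toLin' M) where
  isom u v := by simpa using hM u v
  pow := by rw [← Matrix.toLin'_pow, hpow, Matrix.toLin'_one]; rfl

theorem mat_equiv {M M' : Matrix ι ι F} (e : (ι → F) ≃ₗ[F] (ι → F))
    (h : ∀ x, Matrix.toLin' M' (e x) = e (Matrix.toLin' M x)) :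
    LinearMap.toMatrix' (e : Module.End F (ι → F)) * M = M' * LinearMap.toMatrix' (e : Module.End F (ι → F)) := by
  apply Matrix.toLin'.injective
  rw [Matrix.toLin'_mul, Matrix.toLin'_mul, Matrix.toLin'_toMatrix']
  exact LinearMap.ext fun x => (h x).symm

theorem sp_isConj [Fintype F] (p : ℕ) [Fact p.Prime] [CharP F p] (n : ℕ)
    (g h : Matrix.symplecticGroup (Fin n) F) (hg : (orderOf g).Coprime p) (hh : (orderOf h).Coprime p)
    (hc : (g : Matrix (Fin n ⊕ Fin n) (Fin n ⊕ Fin n) F).charpoly = (h : Matrix (Fin n ⊕ Fin n) (Fin n ⊕ Fin n) F).charpoly) :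
    IsConj g h := by
  haveI : Finite (Matrix.symplecticGroup (Fin n) F) := Subtype.finite
  set N := orderOf g * orderOf h with hN
  have hpow : ∀ x : Matrix.symplecticGroup (Fin n) F, orderOf x ∣ N →
      (x : Matrix (Fin n ⊕ Fin n) (Fin n ⊕ Fin n) F) ^ N = 1 := fun x hx => by
    rw [← SubmonoidClass.coe_pow, orderOf_dvd_iff_pow_eq_one.1 hx]; rfl
  have H : IsForm (RingHom.id F) (-1 : F) (fun u v => GLOrder.sympB n F u v) :=
    { add_left := fun x y z => by simp
      smul_left := fun c x z => by simp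
      symm := fun x y => by rw [RingHom.id_apply, neg_one_mul]; exact GLOrder.sympB_swap x y
      alt := fun _ x => GLOrder.sympB_self x }
  obtain ⟨e, he, heg⟩ := exists_isometry H
    (toLin_isIsom (fun u v => GLOrder.sympB_mulVec g u v) (hpow g (dvd_mul_right _ _))) H
    (toLin_isIsom (fun u v => GLOrder.sympB_mulVec h u v) (hpow h (dvd_mul_left _ _)))
    (Nat.mul_pos (orderOf_pos g) (orderOf_pos h)) (fun _ => rfl)
    (natCast_ne_zero_of_coprime (hg.mul_left hh))
    GLOrder.sympB_nondeg GLOrder.sympB_nondeg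
    (by rw [Matrix.charpoly_toLin', Matrix.charpoly_toLin', hc])
  have hmem : LinearMap.toMatrix' (e : Module.End F _) ∈ Matrix.symplecticGroup (Fin n) F :=
    (GLOrder.mem_symplecticGroup_iff_preserves _).2 fun u v => by
      rw [LinearMap.toMatrix'_mulVec, LinearMap.toMatrix'_mulVec]
      exact he u v
  refine isConj_iff.2 ⟨⟨_, hmem⟩, ?_⟩
  rw [mul_inv_eq_iff_eq_mul]
  exact Subtype.ext (mat_equiv e heg)

theorem su_isConj [Fintype F] {q : ℕ} (hF : Fintype.card F = q ^ 2) (p : ℕ) [Fact p.Prime] [CharP F p]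
    (n : ℕ) (g h : Cfsg.SU n F q) (hg : (orderOf g).Coprime p) (hh : (orderOf h).Coprime p)
    (hc : ((g : Matrix.SpecialLinearGroup (Fin n) F) : Matrix (Fin n) (Fin n) F).charpoly =
      ((h : Matrix.SpecialLinearGroup (Fin n) F) : Matrix (Fin n) (Fin n) F).charpoly) : IsConj g h := by
  rcases Nat.eq_zero_or_pos n with rfl | hn
  · haveI : Subsingleton (Matrix.SpecialLinearGroup (Fin 0) F) :=
      ⟨fun a b => Subtype.ext (Subsingleton.elim _ _)⟩
    rw [show g = h from Subtype.ext (Subsingleton.elim _ _)]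
  haveI : Nonempty (Fin n) := ⟨⟨0, hn⟩⟩
  let σ := Unitary.conjHom hF
  have hσ : ∀ a, σ (σ a) = a := Unitary.pow_q_pow_q hF
  obtain ⟨a₀, ha₀⟩ : ∃ a₀, σ a₀ ≠ a₀ := by
    by_contra hall
    push Not at hall
    have h1 := Unitary.card_fixed hF
    rw [Nat.card_congr (Equiv.subtypeUnivEquiv (p := fun x : F => x ^ q = x) hall), Nat.card_eq_fintype_card, hF] at h1
    have := Unitary.two_le_q hF
    nlinarith
  set N := orderOf g * orderOf h with hN
  have hpow : ∀ x : Cfsg.SU n F q, orderOf x ∣ N →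
      ((x : Matrix.SpecialLinearGroup (Fin n) F) : Matrix (Fin n) (Fin n) F) ^ N = 1 := fun x hx => by
    rw [← Matrix.SpecialLinearGroup.coe_pow, ← SubmonoidClass.coe_pow, orderOf_dvd_iff_pow_eq_one.1 hx]
    rfl
  have hh' := Unitary.hermForm_isHerm (n := n) hF
  have H : IsForm σ (1 : F) (Cfsg.hermForm n F q) :=
    { add_left := hh'.add_left
      smul_left := hh'.smul_left
      symm := fun x y => by rw [one_mul]; exact hh'.conj_symm x y
      alt := fun hid => absurd (hid a₀) ha₀ }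
  have hnd := Unitary.hermForm_nondeg hF n
  have hN0 : 0 < N := Nat.mul_pos (orderOf_pos g) (orderOf_pos h)
  have hNF : (N : F) ≠ 0 := natCast_ne_zero_of_coprime (hg.mul_left hh)
  have Gg := toLin_isIsom (Unitary.SU_apply g) (hpow g (dvd_mul_right _ _))
  obtain ⟨e, he, heg⟩ := exists_isometry H Gg H
    (toLin_isIsom (Unitary.SU_apply h) (hpow h (dvd_mul_left _ _))) hN0 hσ hNF hnd hnd
    (by rw [Matrix.charpoly_toLin', Matrix.charpoly_toLin', hc])
  have hz := det_mul_conj_of_isom H hnd e he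
  set z := LinearMap.det (e : Module.End F (Fin n → F))
  obtain ⟨T, hT, hTg, hTd⟩ := exists_centralizer_det H Gg hN0 hσ hNF hnd ha₀ (z := σ z)
    (by rw [hσ, mul_comm]; exact hz)
  have hdet : (LinearMap.toMatrix' ((T.trans e : (Fin n → F) ≃ₗ[F] _) : Module.End F (Fin n → F))).det = 1 := by
    rw [LinearMap.det_toMatrix', show ((T.trans e : (Fin n → F) ≃ₗ[F] _) : Module.End F (Fin n → F)) =
      (e : Module.End F (Fin n → F)) * (T : Module.End F (Fin n → F)) from rfl, map_mul, hTd]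
    exact hz
  have hmem : (⟨_, hdet⟩ : Matrix.SpecialLinearGroup (Fin n) F) ∈ Cfsg.SU n F q :=
    (Unitary.mem_SU_iff _).2 fun u v => by
      show Cfsg.hermForm n F q (LinearMap.toMatrix' _ *ᵥ u) (LinearMap.toMatrix' _ *ᵥ v) = _
      rw [LinearMap.toMatrix'_mulVec, LinearMap.toMatrix'_mulVec]
      exact (he _ _).trans (hT u v)
  refine isConj_iff.2 ⟨⟨_, hmem⟩, ?_⟩
  rw [mul_inv_eq_iff_eq_mul]
  refine Subtype.ext (Subtype.ext (mat_equiv (T.trans e) fun x => ?_))
  simp only [LinearEquiv.trans_apply]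
  rw [heg, hTg]

end Cfsg.Agent.FormClasses
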