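import Cfsg.Agent.EqLemmas
import Cfsg.Agent.Lib.FormClasses.Groups
import Cfsg.Agent.Lib.Semisimple.Classes

/-!
Counting semisimple classes through characteristic polynomials, and their symmetry.
-/

set_option autoImplicit false

namespace Cfsg.Agent.FormClasses

open Polynomial

variable {F : Type*} [Field F] {ι : Type*} [Fintype ι] [DecidableEq ι]

/-- Semisimple classes correspond to characteristic polynomials. -/
theorem card_classes_eq_range [Fintype F] (p : ℕ) [Fact p.Prime] [CharP F p] {G : Type*} [Group G]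
    [Finite G] (ρ : G →* Matrix ι ι F)
    (hconj : ∀ g h : G, (orderOf g).Coprime p → (orderOf h).Coprime p →
      (ρ g).charpoly = (ρ h).charpoly → IsConj g h) :
    Nat.card {c : ConjClasses G // ∃ g : G, ConjClasses.mk g = c ∧ (orderOf g).Coprime p} =
      Nat.card (Set.range fun g => (ρ g).charpoly) := by
  have hinv : ∀ {g h : G}, IsConj g h → (ρ g).charpoly = (ρ h).charpoly := by
    intro g h hgh
    obtain ⟨c, rfl⟩ := isConj_iff.1 hgh
    let u : (Matrix ι ι F)ˣ := (Units.map ρ) (toUnits c)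
    have h1 : ρ (c * g * c⁻¹) = (u : Matrix ι ι F) * ρ g * ((u⁻¹ : (Matrix ι ι F)ˣ) : Matrix ι ι F) := by
      simp [u, map_mul]
    rw [h1, Matrix.coe_units_inv, Matrix.charpoly_units_conj]
  let Ψ : {c : ConjClasses G // ∃ g : G, ConjClasses.mk g = c ∧ (orderOf g).Coprime p} →
      Set.range fun g => (ρ g).charpoly := fun c => ⟨(ρ c.2.choose).charpoly, c.2.choose, rfl⟩
  refine Nat.card_eq_of_bijective Ψ ⟨fun c c' h => ?_, ?_⟩
  · apply Subtype.ext
    rw [← c.2.choose_spec.1, ← c'.2.choose_spec.1, ConjClasses.mk_eq_mk_iff_isConj]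
    exact hconj _ _ c.2.choose_spec.2 c'.2.choose_spec.2 (congrArg Subtype.val h)
  · rintro ⟨_, g, rfl⟩
    obtain ⟨a, m, hm, hN⟩ := Nat.exists_eq_pow_mul_and_not_dvd (orderOf_pos g).ne' p
      (Fact.out : p.Prime).ne_one
    set k := Fintype.card F ^ a
    have hdvd : orderOf g ∣ k * m := by
      obtain ⟨s, hp, hs⟩ := FiniteField.card F p
      rw [hN, show k = Fintype.card F ^ a from rfl, hs, ← pow_mul]
      exact Nat.mul_dvd_mul_right (pow_dvd_pow p (Nat.le_mul_of_pos_left a s.pos)) m
    have hcop : (orderOf (g ^ k)).Coprime p :=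
      Nat.Coprime.coprime_dvd_left
        (orderOf_dvd_of_pow_eq_one (by rw [← pow_mul]; exact orderOf_dvd_iff_pow_eq_one.1 hdvd))
        ((Fact.out : p.Prime).coprime_iff_not_dvd.2 hm).symm
    have hchar : (ρ (g ^ k)).charpoly = (ρ g).charpoly := by
      rw [map_pow, show k = Fintype.card F ^ a from rfl]
      clear hdvd hcop hN
      clear_value k
      induction a with
      | zero => simp
      | succ a ih => rw [pow_succ, pow_mul, FiniteField.Matrix.charpoly_pow_card, ih]
    refine ⟨⟨ConjClasses.mk (g ^ k), g ^ k, rfl, hcop⟩, Subtype.ext ?_⟩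
    show (ρ (Exists.choose _)).charpoly = (ρ g).charpoly
    rw [← hchar]
    exact hinv (ConjClasses.mk_eq_mk_iff_isConj.1 (Exists.choose_spec
      (⟨g ^ k, rfl, hcop⟩ : ∃ x : G, ConjClasses.mk x = ConjClasses.mk (g ^ k) ∧ (orderOf x).Coprime p)).1)

/-- The fixed points of a semilinear involution of `F^m`, `|F| = q^2`. -/
theorem card_semilinear_fixed [Fintype F] {q : ℕ} (hF : Fintype.card F = q ^ 2) (m : ℕ)
    (T : (Fin m → F) → (Fin m → F)) (hadd : ∀ x y, T (x + y) = T x + T y)
    (hsmul : ∀ (c : F) x, T (c • x) = c ^ q • T x) (hinv : ∀ x, T (T x) = x) :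
    Nat.card {v : Fin m → F // T v = v} = q ^ m := by
  obtain ⟨δ, hδ⟩ : ∃ δ : F, δ ^ q ≠ δ := by
    by_contra hall
    push Not at hall
    have h1 := Unitary.card_fixed hF
    rw [Nat.card_congr (Equiv.subtypeUnivEquiv hall), Nat.card_eq_fintype_card, hF] at h1
    have := Unitary.two_le_q hF
    nlinarith
  have hd : δ - δ ^ q ≠ 0 := sub_ne_zero.2 (Ne.symm hδ)
  have hsub : ∀ x y, T (x - y) = T x - T y := fun x y => by
    have h := hadd (x - y) y
    rw [sub_add_cancel] at h
    rw [h, add_sub_cancel_right]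
  let Φ : {v : Fin m → F // T v = v} × {v : Fin m → F // T v = v} → (Fin m → F) :=
    fun x => x.1.1 + δ • x.2.1
  have hΦ : Function.Bijective Φ := by
    constructor
    · rintro ⟨a, b⟩ ⟨a', b'⟩ h
      change a.1 + δ • b.1 = a'.1 + δ • b'.1 at h
      have h' := congrArg T h
      rw [hadd, hadd, hsmul, hsmul, a.2, b.2, a'.2, b'.2] at h'
      have hb : (δ - δ ^ q) • (b.1 - b'.1) = 0 := by
        funext i
        have e1 := congrFun h i
        have e2 := congrFun h' i
        simp only [Pi.add_apply, Pi.smul_apply, smul_eq_mul] at e1 e2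
        simp only [Pi.smul_apply, Pi.sub_apply, smul_eq_mul, Pi.zero_apply]
        linear_combination e1 - e2
      have hb' : b.1 = b'.1 := sub_eq_zero.1 ((smul_eq_zero.1 hb).resolve_left hd)
      rw [hb'] at h
      exact Prod.ext (Subtype.ext (add_right_cancel h)) (Subtype.ext hb')
    · intro x
      set b := (δ - δ ^ q)⁻¹ • (x - T x) with hb
      have hbf : T b = b := by
        rw [hb, hsmul, hsub, hinv, inv_pow, Unitary.sub_pow_q hF, Unitary.pow_q_pow_q hF,
          ← neg_sub δ, ← neg_sub x, inv_neg, smul_neg, neg_smul, neg_neg]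
      refine ⟨(⟨x - δ • b, ?_⟩, ⟨b, hbf⟩), sub_add_cancel _ _⟩
      rw [hsub, hsmul, hbf]
      funext i
      have e : (δ - δ ^ q) * b i = x i - T x i := by
        rw [hb, Pi.smul_apply, smul_eq_mul, Pi.sub_apply, ← mul_assoc, mul_inv_cancel₀ hd, one_mul]
      simp only [Pi.sub_apply, Pi.smul_apply, smul_eq_mul]
      linear_combination e
  have h := Nat.card_eq_of_bijective Φ hΦ
  rw [Nat.card_prod, Nat.card_fun, Nat.card_fin, Nat.card_eq_fintype_card (α := F), hF, ← pow_mul,
    show 2 * m = m + m by omega, pow_add] at h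
  exact Nat.mul_self_inj.1 h

/-- The characteristic polynomial of an inverse. -/
theorem charpoly_inv' (A : Matrix ι ι F) (hA : A.det ≠ 0) :
    A⁻¹.charpoly = C ((-1) ^ Fintype.card ι * A.det⁻¹) * A.charpoly.reverse := by
  rw [Matrix.charpoly_inv A ((Matrix.isUnit_iff_isUnit_det A).2 (isUnit_iff_ne_zero.2 hA)),
    Matrix.reverse_charpoly, map_mul, map_pow, map_neg, map_one, Ring.inverse_eq_inv']

theorem coeff_reverse_charpoly (A : Matrix ι ι F) {i : ℕ} (hi : i ≤ Fintype.card ι) :
    A.charpoly.reverse.coeff i = A.charpoly.coeff (Fintype.card ι - i) := by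
  rw [coeff_reverse, Matrix.charpoly_natDegree_eq_dim, revAt_le hi]

end Cfsg.Agent.FormClasses
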