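import Cfsg.Agent.EqLemmas
import Cfsg.Agent.Lib.FormClasses.Count
import Mathlib.RingTheory.Artinian.Module

/-!
Every conjugate-reciprocal monic polynomial is the characteristic polynomial of a unitary matrix.
-/

set_option autoImplicit false

namespace Cfsg.Agent.FormClasses

open Polynomial

/-- A unit fixed by a twisted semilinear involution. -/
theorem exists_fixed_unit {R : Type*} [CommRing R] [Finite R] (ι : R →+* R) (hι : ∀ x, ι (ι x) = x)
    (u : R) (hu : u * ι u = 1) (d : R) (hd : IsUnit (d - ι d)) :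
    ∃ v, IsUnit v ∧ u * ι v = v := by
  classical
  haveI : IsArtinianRing R := inferInstance
  haveI : Finite (MaximalSpectrum R) := inferInstance
  haveI := Fintype.ofFinite (MaximalSpectrum R)
  let e := Fintype.equivFin (MaximalSpectrum R)
  have hbij : Function.Bijective ι :=
    ⟨fun a b h => by rw [← hι a, h, hι], fun a => ⟨ι a, hι a⟩⟩
  let flip : MaximalSpectrum R → MaximalSpectrum R := fun M =>
    ⟨M.asIdeal.comap ι, by haveI := M.isMaximal; exact Ideal.comap_isMaximal_of_surjective ι hbij.2⟩
  have hflip : ∀ M (x : R), x ∈ (flip M).asIdeal ↔ ι x ∈ M.asIdeal := fun M x => Iff.rfl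
  have hff : ∀ M, flip (flip M) = M := fun M => MaximalSpectrum.ext (Ideal.ext fun x => by
    rw [hflip, hflip, hι])
  have hself : ∀ M, flip M = M → ∃ w, w + u * ι w ∉ M.asIdeal := by
    intro M _
    by_contra hc
    push Not at hc
    haveI := M.isMaximal
    refine M.isMaximal.ne_top (Ideal.eq_top_of_isUnit_mem _ ?_ hd)
    have h1 := hc 1
    rw [map_one, mul_one] at h1
    rw [show d - ι d = (1 + u) * d * ι u - (d + u * ι d) * ι u by
      linear_combination (ι d - d) * hu]
    exact M.asIdeal.sub_mem (M.asIdeal.mul_mem_right _ (M.asIdeal.mul_mem_right _ h1))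
      (M.asIdeal.mul_mem_right _ (hc d))
  let x : MaximalSpectrum R → R := fun M =>
    if h : flip M = M then (hself M h).choose else if e M < e (flip M) then 1 else 0
  have hcop : Pairwise (Function.onFun IsCoprime fun M : MaximalSpectrum R => M.asIdeal) := fun M M' hne => by
    rw [Function.onFun, Ideal.isCoprime_iff_sup_eq]
    exact M.isMaximal.coprime_of_ne M'.isMaximal fun h => hne (MaximalSpectrum.ext h)
  obtain ⟨w, hw⟩ := Ideal.exists_forall_sub_mem_ideal hcop x
  refine ⟨w + u * ι w, ?_, by
    rw [map_add, map_mul, hι, mul_add, ← mul_assoc, hu, one_mul, add_comm]⟩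
  by_contra hnu
  obtain ⟨I, hI, hmem⟩ := exists_max_ideal_of_mem_nonunits (a := w + u * ι w) hnu
  obtain ⟨M, rfl⟩ : ∃ M : MaximalSpectrum R, M.asIdeal = I := ⟨⟨I, hI⟩, rfl⟩
  have huu : ∀ a, u * a ∈ M.asIdeal → a ∈ M.asIdeal := fun a ha => by
    have := M.asIdeal.mul_mem_left (ι u) ha
    rwa [← mul_assoc, mul_comm (ι u), hu, one_mul] at this
  by_cases hM : flip M = M
  · have h0 := hw M
    simp only [x, dif_pos hM] at h0
    refine (hself M hM).choose_spec ?_
    have h1 : ι (w - (hself M hM).choose) ∈ M.asIdeal := (hflip M _).1 (hM.symm ▸ h0)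
    rw [map_sub] at h1
    have e : (hself M hM).choose + u * ι (hself M hM).choose =
        (w + u * ι w) - ((w - (hself M hM).choose) + u * (ι w - ι (hself M hM).choose)) := by ring
    rw [e]
    exact M.asIdeal.sub_mem hmem (M.asIdeal.add_mem h0 (M.asIdeal.mul_mem_left u h1))
  · have hM' : flip (flip M) ≠ flip M := by rw [hff]; exact Ne.symm hM
    have h0 := hw M
    have h1 := hw (flip M)
    simp only [x, dif_neg hM] at h0
    simp only [x, dif_neg hM', hff] at h1
    rw [hflip, map_sub] at h1
    have hne : e M ≠ e (flip M) := fun h => hM (e.injective h).symm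
    rcases lt_or_gt_of_ne hne with hlt | hlt
    · rw [if_pos hlt] at h0
      rw [if_neg (not_lt.2 hlt.le), map_zero, sub_zero] at h1
      have hwM : w ∈ M.asIdeal := by
        have := M.asIdeal.sub_mem hmem (M.asIdeal.mul_mem_left u h1)
        simpa using this
      exact M.isMaximal.ne_top ((Ideal.eq_top_iff_one _).2 (by
        simpa using M.asIdeal.sub_mem hwM h0))
    · rw [if_neg (not_lt.2 hlt.le), sub_zero] at h0
      rw [if_pos hlt, map_one] at h1
      have hwM : ι w ∈ M.asIdeal := huu _ (by simpa using M.asIdeal.sub_mem hmem h0)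
      exact M.isMaximal.ne_top ((Ideal.eq_top_iff_one _).2 (by
        simpa using M.asIdeal.sub_mem hwM h1))

variable {F : Type*} [Field F] [Fintype F] {q : ℕ}

/-- A unitary matrix with prescribed conjugate-reciprocal characteristic polynomial. -/
theorem exists_unitary_charpoly (hF : Fintype.card F = q ^ 2) (n : ℕ) (P : F[X]) (hP : P.Monic)
    (hn : P.natDegree = n) (hsym : ∀ i ≤ n, P.coeff i ^ q = (-1) ^ n * P.coeff (n - i)) :
    ∃ M : Matrix (Fin n) (Fin n) F, Unitary.IsUnitary q M ∧ M.charpoly = P := by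
  classical
  subst hn
  set n := P.natDegree with hn
  let σ := Unitary.conjHom hF
  have hσ : ∀ a, σ (σ a) = a := Unitary.pow_q_pow_q hF
  obtain ⟨a₀, ha₀⟩ : ∃ a₀, σ a₀ ≠ a₀ := by
    by_contra hall
    push Not at hall
    have h1 := Unitary.card_fixed hF
    rw [Nat.card_congr (Equiv.subtypeUnivEquiv (p := fun x : F => x ^ q = x) hall),
      Nat.card_eq_fintype_card, hF] at h1
    have := Unitary.two_le_q hF
    nlinarith
  haveI : Module.Finite F (AdjoinRoot P) := (AdjoinRoot.powerBasis' hP).finite
  haveI : Finite (AdjoinRoot P) := Module.finite_of_finite F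
  have hc0 : P.coeff 0 ≠ 0 := by
    intro h0
    have h := hsym n le_rfl
    rw [Nat.sub_self, h0, mul_zero] at h
    rw [show P.coeff n = 1 from hP.coeff_natDegree, one_pow] at h
    exact one_ne_zero h
  set r := AdjoinRoot.root P with hr
  obtain ⟨y, hy⟩ : ∃ y, r * y = 1 := by
    refine ⟨-(AdjoinRoot.mk P (P.divX * C (P.coeff 0)⁻¹)), ?_⟩
    have h : AdjoinRoot.mk P (Polynomial.X * P.divX + C (P.coeff 0)) = 0 := by
      rw [X_mul_divX_add]; exact AdjoinRoot.mk_self
    rw [map_add, map_mul, AdjoinRoot.mk_X] at h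
    rw [map_mul, ← sub_eq_zero, show r * -(AdjoinRoot.mk P P.divX * AdjoinRoot.mk P (C (P.coeff 0)⁻¹)) - 1
      = -(r * AdjoinRoot.mk P P.divX + AdjoinRoot.mk P (C (P.coeff 0))) * AdjoinRoot.mk P (C (P.coeff 0)⁻¹) by
        have e : AdjoinRoot.mk P (C (P.coeff 0)) * AdjoinRoot.mk P (C (P.coeff 0)⁻¹) = 1 := by
          rw [← map_mul, ← C_mul, mul_inv_cancel₀ hc0, map_one, map_one]
        linear_combination e, h, neg_zero, zero_mul]
  have heval : eval₂ ((AdjoinRoot.of P).comp σ) y P = 0 := by
    have hru : IsUnit (r ^ n) := (IsUnit.of_mul_eq_one y hy).pow n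
    refine hru.mul_right_eq_zero.1 ?_
    rw [eval₂_eq_sum_range, ← hn, Finset.mul_sum]
    have e : ∀ i ∈ Finset.range (n + 1), r ^ n * (((AdjoinRoot.of P).comp σ) (P.coeff i) * y ^ i) =
        AdjoinRoot.of P ((-1) ^ n) * (AdjoinRoot.of P (P.coeff (n - i)) * r ^ (n - i)) := by
      intro i hi
      have hi' : i ≤ n := by have := Finset.mem_range.1 hi; omega
      have : r ^ n * y ^ i = r ^ (n - i) := by
        conv_lhs => rw [← Nat.sub_add_cancel hi', pow_add, mul_assoc, ← mul_pow, hy, one_pow, mul_one]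
      rw [RingHom.comp_apply, show σ (P.coeff i) = P.coeff i ^ q from rfl, hsym i hi',
        map_mul (AdjoinRoot.of P), ← this]
      ring
    rw [Finset.sum_congr rfl e, ← Finset.mul_sum]
    have h0 : ∑ i ∈ Finset.range (n + 1), AdjoinRoot.of P (P.coeff (n - i)) * r ^ (n - i) = 0 := by
      rw [show ∑ i ∈ Finset.range (n + 1), AdjoinRoot.of P (P.coeff (n - i)) * r ^ (n - i) =
          ∑ i ∈ Finset.range (n + 1), AdjoinRoot.of P (P.coeff i) * r ^ i from
        Finset.sum_range_reflect (fun i => AdjoinRoot.of P (P.coeff i) * r ^ i) (n + 1)]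
      have := AdjoinRoot.eval₂_root P
      rwa [eval₂_eq_sum_range] at this
    rw [h0, mul_zero]
  let ι : AdjoinRoot P →+* AdjoinRoot P := AdjoinRoot.lift ((AdjoinRoot.of P).comp σ) y heval
  have hιr : ι r = y := AdjoinRoot.lift_root _
  have hιc : ∀ c, ι (AdjoinRoot.of P c) = AdjoinRoot.of P (σ c) := fun c => AdjoinRoot.lift_of _
  have hιy : ι y = r := by
    have h := congrArg ι hy
    rw [map_mul, map_one, hιr] at h
    calc ι y = (r * y) * ι y := by rw [hy, one_mul]
      _ = r := by rw [mul_assoc, h, mul_one]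
  have hι : ∀ x, ι (ι x) = x := by
    intro x
    obtain ⟨p, rfl⟩ := AdjoinRoot.mk_surjective x
    induction p using Polynomial.induction_on with
    | C c => rw [AdjoinRoot.mk_C, hιc, hιc, hσ]
    | add p p' hp hp' => simp only [map_add, hp, hp']
    | monomial k c ih =>
      rw [pow_succ, ← mul_assoc, map_mul, map_mul, map_mul, ih, AdjoinRoot.mk_X, ← hr, hιr, hιy]
  have hιsmul : ∀ (c : F) x, ι (c • x) = σ c • ι x := fun c x => by
    rw [Algebra.smul_def, Algebra.smul_def, map_mul, AdjoinRoot.algebraMap_eq, hιc]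
  let τ : AdjoinRoot P →ₗ[F] F := (lcoeff F (n - 1)).comp (AdjoinRoot.modByMonicHom hP)
  have hτ : ∀ x, (∀ z, τ (x * z) = 0) → x = 0 := by
    intro x hx
    obtain ⟨p, rfl⟩ := AdjoinRoot.mk_surjective x
    by_contra h
    have hne : p %ₘ P ≠ 0 := fun h0 => h (by
      rw [← AdjoinRoot.mk_leftInverse hP (AdjoinRoot.mk P p), AdjoinRoot.modByMonicHom_mk, h0, map_zero])
    have hlt : (p %ₘ P).natDegree < n :=
      natDegree_modByMonic_lt p hP (fun h1 => hne (by rw [h1, modByMonic_one]))
    have := hx (AdjoinRoot.mk P (X ^ (n - 1 - (p %ₘ P).natDegree)))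
    rw [← AdjoinRoot.mk_leftInverse hP (AdjoinRoot.mk P p), AdjoinRoot.modByMonicHom_mk, ← map_mul] at this
    simp only [τ, LinearMap.comp_apply, AdjoinRoot.modByMonicHom_mk, lcoeff_apply] at this
    have hdeg : ((p %ₘ P) * X ^ (n - 1 - (p %ₘ P).natDegree)).natDegree < P.natDegree := by
      rw [natDegree_mul hne (pow_ne_zero _ X_ne_zero), natDegree_X_pow]; omega
    rw [(modByMonic_eq_self_iff hP).2 (degree_lt_degree hdeg)] at this
    have e : n - 1 = (p %ₘ P).natDegree + (n - 1 - (p %ₘ P).natDegree) := by omega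
    nth_rewrite 2 [e] at this
    rw [coeff_mul_X_pow, coeff_natDegree, leadingCoeff_eq_zero] at this
    exact hne this
  -- the conjugate functional
  let κ : AdjoinRoot P →ₗ[F] F :=
    { toFun := fun z => σ (τ (ι z))
      map_add' := fun a b => by simp only [map_add]
      map_smul' := fun c a => by
        rw [hιsmul, map_smul, smul_eq_mul, map_mul, hσ, RingHom.id_apply, smul_eq_mul] }
  let S : AdjoinRoot P →ₗ[F] (AdjoinRoot P →ₗ[F] F) :=
    { toFun := fun u => τ.comp (LinearMap.mulLeft F u)
      map_add' := fun s t => LinearMap.ext fun x => by simp [add_mul]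
      map_smul' := fun c s => LinearMap.ext fun x => by simp }
  obtain ⟨u, hu⟩ := (LinearMap.injective_iff_surjective_of_finrank_eq_finrank (f := S)
    Subspace.dual_finrank_eq.symm).1 ((injective_iff_map_eq_zero S).2 fun s hs => hτ s fun z =>
      LinearMap.congr_fun hs z) κ
  have hu' : ∀ z, σ (τ z) = τ (u * ι z) := fun z => by
    have h : τ (u * ι z) = σ (τ (ι (ι z))) := LinearMap.congr_fun hu (ι z)
    rw [h, hι]
  have huu : u * ι u = 1 := by
    refine sub_eq_zero.1 (hτ _ fun z => ?_)
    rw [sub_mul, one_mul, map_sub, sub_eq_zero]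
    calc τ (u * ι u * z) = τ (u * ι (u * ι z)) := by rw [map_mul ι, hι, mul_assoc]
      _ = τ z := by rw [← hu', ← hu', hσ]
  have hd : IsUnit (AdjoinRoot.of P a₀ - ι (AdjoinRoot.of P a₀)) := by
    rw [hιc, ← map_sub]
    exact (isUnit_iff_ne_zero.2 (sub_ne_zero.2 (Ne.symm ha₀))).map _
  obtain ⟨v, hv, hTv⟩ := exists_fixed_unit ι hι u huu _ hd
  let h : AdjoinRoot P → AdjoinRoot P → F := fun a b => τ (v * a * ι b)
  have H : Unitary.IsHerm q h :=
    { add_left := fun a b c => by simp only [h, mul_add, add_mul, map_add]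
      smul_left := fun c a b => by simp only [h, mul_smul_comm, smul_mul_assoc, map_smul, smul_eq_mul]
      conj_symm := fun a b => by
        show _ = σ (τ (v * a * ι b))
        rw [hu', map_mul ι, map_mul ι, hι]
        show τ (v * b * ι a) = _
        congr 1
        linear_combination (-(b * ι a)) * hTv }
  have hnd : Unitary.Nondeg h := fun x hx => by
    have h1 : v * x = 0 := hτ _ fun z => by
      have := hx (ι z)
      simpa [h, hι] using this
    exact hv.mul_right_eq_zero.1 h1
  obtain ⟨c, hc⟩ := Unitary.exists_orthonormalBasis hF H hnd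
  have hdim : Module.finrank F (AdjoinRoot P) = n := by
    rw [(AdjoinRoot.powerBasis' hP).finrank]; rfl
  let c' : Fin n → AdjoinRoot P := c ∘ (finCongr hdim).symm
  have hc' : Unitary.Orthonormal h c' := hc.comp _ (Equiv.injective _)
  have hcard : Fintype.card (Fin n) = Module.finrank F (AdjoinRoot P) := by rw [Fintype.card_fin, hdim]
  let b : Module.Basis (Fin n) F (AdjoinRoot P) :=
    Module.Basis.mk (hc'.linearIndependent H)
      (le_of_eq ((hc'.linearIndependent H).span_eq_top_of_card_eq_finrank' hcard).symm)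
  have hb : ∀ i, b i = c' i := fun i => Module.Basis.mk_apply _ _ i
  refine ⟨Algebra.leftMulMatrix b r, ?_, ?_⟩
  · rw [Unitary.isUnitary_iff_orthonormal hF]
    have key : ∀ i j, Cfsg.hermForm n F q ((Algebra.leftMulMatrix b r).transpose i)
        ((Algebra.leftMulMatrix b r).transpose j) = h (c' i) (c' j) := by
      intro i j
      have e : ∀ k, r * c' k = ∑ l, (Algebra.leftMulMatrix b r).transpose k l • c' l := fun k => by
        conv_lhs => rw [← hb k, ← b.sum_repr (r * b k)]
        exact Finset.sum_congr rfl fun l _ => by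
          simp only [Matrix.transpose_apply, Algebra.leftMulMatrix_eq_repr_mul, hb]
      have hinner := hc'.inner_sum hF H ((Algebra.leftMulMatrix b r).transpose i)
        ((Algebra.leftMulMatrix b r).transpose j)
      rw [← e, ← e] at hinner
      show ∑ l, _ = _
      rw [← hinner]
      simp only [h, map_mul ι, hιr]
      congr 1
      linear_combination (v * c' i * ι (c' j)) * hy
    exact ⟨fun i => (key i i).trans (hc'.1 i), fun i j hij => (key i j).trans (hc'.2 hij)⟩
  · have h1 := charpoly_leftMulMatrix (AdjoinRoot.powerBasis' hP)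
    rw [show (AdjoinRoot.powerBasis' hP).gen = r from rfl, hr,
      AdjoinRoot.minpoly_root hP.ne_zero, hP.leadingCoeff, inv_one, map_one, mul_one] at h1
    refine Eq.trans ?_ h1
    rw [Algebra.leftMulMatrix_apply, Algebra.leftMulMatrix_apply, LinearMap.charpoly_toMatrix,
      LinearMap.charpoly_toMatrix]

end Cfsg.Agent.FormClasses
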